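import Cfsg.Agent.Lib.Char.FeitDegree.Index.Exact
import Cfsg.Agent.Lib.CharDeep.Clifford
import Cfsg.Agent.Lib.CharDeep.DetExt

/-!
# The index of the normal core of a Sylow subgroup: constituents, the core, twisting
-/

set_option autoImplicit false

open scoped Classical ComplexConjugate

namespace CfsgLib.Char.FeitDegree.Index

open Cfsg CfsgLib

universe u

/-- The normal core has index at most `p` in a Sylow subgroup. -/
def HasIndex (p : ℕ) (G : Type u) [Group G] : Prop :=
  ∀ P : Sylow p G, Nat.card (P : Subgroup G) ≤ p * Nat.card (P : Subgroup G).normalCore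

variable {G : Type u} [Group G] [Fintype G] {p : ℕ} [hp : Fact p.Prime]

omit [Fintype G] hp in
theorem le_sylow (P : Sylow p G) {N : Subgroup G} [N.Normal] (h : IsPGroup p N) : N ≤ (P : Subgroup G) :=
  (P.3 (IsPGroup.to_sup_of_normal_left h P.2) le_sup_right).le.trans' le_sup_left

omit [Fintype G] hp in
theorem le_core (P : Sylow p G) {N : Subgroup G} [N.Normal] (h : IsPGroup p N) :
    N ≤ (P : Subgroup G).normalCore :=
  Subgroup.normal_le_normalCore.2 (le_sylow P h)

omit [Fintype G] hp in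
theorem core_isPGroup (P : Sylow p G) : IsPGroup p (P : Subgroup G).normalCore :=
  P.2.to_le (Subgroup.normalCore_le _)

omit hp in
theorem card_le_mul {H : Type*} [Group H] [Finite H] (f : G →* H) (A : Subgroup G) {C : Subgroup H}
    (hC : C ≤ A.map f) (h : Nat.card (A.map f) ≤ p * Nat.card C) :
    Nat.card A ≤ p * Nat.card (A ⊓ C.comap f : Subgroup G) := by
  have hidx : (C.comap f).relIndex A = C.relIndex (A.map f) := Subgroup.relIndex_comap C f A
  have hpos : 0 < Nat.card C := Nat.card_pos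
  have h1 : C.relIndex (A.map f) * Nat.card C = Nat.card (A.map f) := by
    rw [← Subgroup.relIndex_bot_left C, ← Subgroup.relIndex_bot_left (A.map f), mul_comm,
      Subgroup.relIndex_mul_relIndex _ _ _ bot_le hC]
  have h2 : C.relIndex (A.map f) ≤ p := Nat.le_of_mul_le_mul_right (h1 ▸ h) hpos
  have h3 : Nat.card (A ⊓ C.comap f : Subgroup G) * (C.comap f).relIndex A = Nat.card A := by
    rw [← Subgroup.inf_relIndex_left A (C.comap f), ← Subgroup.relIndex_bot_left (A ⊓ C.comap f : Subgroup G),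
      Subgroup.relIndex_mul_relIndex _ _ _ bot_le inf_le_left, Subgroup.relIndex_bot_left]
  rw [← h3, hidx, mul_comm p]
  exact Nat.mul_le_mul_left _ h2

theorem HasIndex.of_quotient {N : Subgroup G} [N.Normal] (hN : IsPGroup p N) (h : HasIndex p (G ⧸ N)) :
    HasIndex p G := by
  intro P
  set f := QuotientGroup.mk' N
  set Q := P.mapSurjective (QuotientGroup.mk'_surjective N)
  set C := (Q : Subgroup (G ⧸ N)).normalCore
  have hC : IsPGroup p (C.comap f) :=
    (core_isPGroup Q).comap_of_ker_isPGroup f (by rwa [QuotientGroup.ker_mk'])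
  refine (card_le_mul f (P : Subgroup G) (Subgroup.normalCore_le _) (h Q)).trans
    (Nat.mul_le_mul_left _ (Subgroup.card_le_of_le (inf_le_right.trans (le_core P hC))))

/-- The faithful character on the quotient by the kernel. -/
theorem exists_image (φ : IrrCharacter G) :
    haveI := charKer_normal (isCharacter_irr φ)
    ∃ ψ : IrrCharacter (G ⧸ charKer (isCharacter_irr φ)),
      (φ : G → ℂ) = (ψ : G ⧸ charKer (isCharacter_irr φ) → ℂ) ∘ QuotientGroup.mk' _ ∧
      (∀ q, (ψ : G ⧸ charKer (isCharacter_irr φ) → ℂ) q = (ψ : G ⧸ charKer (isCharacter_irr φ) → ℂ) 1 → q = 1) ∧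
      charDegree (ψ : G ⧸ charKer (isCharacter_irr φ) → ℂ) = charDegree (φ : G → ℂ) := by
  haveI := charKer_normal (isCharacter_irr φ)
  obtain ⟨ψ, hψ, he⟩ := IsIrrCharacter.exists_deflate φ.2 (charKer (isCharacter_irr φ))
    fun k hk => (mem_charKer _).1 hk
  refine ⟨⟨ψ, hψ⟩, he, fun q hq => ?_, ?_⟩
  · obtain ⟨g, rfl⟩ := QuotientGroup.mk'_surjective (charKer (isCharacter_irr φ)) q
    refine (QuotientGroup.eq_one_iff g).2 ((mem_charKer _).2 ?_)
    rw [he, Function.comp_apply, Function.comp_apply, map_one]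
    exact hq
  · show charDegree ψ = _
    simp only [charDegree, he, Function.comp_apply, map_one]

/-- A constituent below half of `p` has a normal Sylow image. -/
theorem image_normal (P : Sylow p G) (φ : IrrCharacter G) (hd : 2 * charDegree (φ : G → ℂ) + 1 < p) :
    haveI := charKer_normal (isCharacter_irr φ)
    ((P : Subgroup G).map (QuotientGroup.mk' (charKer (isCharacter_irr φ)))).Normal := by
  haveI := charKer_normal (isCharacter_irr φ)
  letI := Fintype.ofFinite (G ⧸ charKer (isCharacter_irr φ))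
  obtain ⟨ψ, -, hf, hdeg⟩ := exists_image φ
  exact normal_of_small (isCharacter_irr ψ) hf (hdeg ▸ hd) (P.mapSurjective (QuotientGroup.mk'_surjective _))

variable {χ : G → ℂ} (hχ : Cfsg.IsCharacter G χ) (hfaith : ∀ g : G, χ g = χ 1 → g = 1) {m : IrrCharacter G → ℕ}
  (hexp : ∀ g, χ g = ∑ φ, (m φ : ℂ) * (φ : G → ℂ) g)

omit hp in
include hχ hexp in
theorem sum_deg : ∑ φ, m φ * charDegree (φ : G → ℂ) = charDegree χ := by
  apply Nat.cast_injective (R := ℂ)
  rw [DegreeTools.charDegree_cast hχ, hexp, Nat.cast_sum]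
  exact Finset.sum_congr rfl fun φ _ => by rw [Nat.cast_mul, DegreeTools.deg_cast]

omit hp in
include hfaith hexp in
theorem eq_one_of_kers {g : G} (h : ∀ φ, m φ ≠ 0 → (φ : G → ℂ) g = (φ : G → ℂ) 1) : g = 1 := by
  refine hfaith g ?_
  rw [hexp, hexp 1]
  refine Finset.sum_congr rfl fun φ _ => ?_
  by_cases h0 : m φ = 0
  · simp [h0]
  · rw [h φ h0]

omit hp in
include hχ hexp in
/-- Only one constituent can be large. -/
theorem big_unique (hn : charDegree χ + 2 ≤ p) {φ : IrrCharacter G} (h0 : m φ ≠ 0)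
    (hb : p ≤ 2 * charDegree (φ : G → ℂ) + 1) :
    m φ = 1 ∧ ∀ φ', φ' ≠ φ → m φ' ≠ 0 → 2 * charDegree (φ' : G → ℂ) + 1 < p := by
  have hs := sum_deg hχ hexp
  refine ⟨?_, fun φ' hne h0' => ?_⟩
  · by_contra h
    have h2 := Finset.single_le_sum (f := fun ψ => m ψ * charDegree (ψ : G → ℂ)) (fun _ _ => Nat.zero_le _)
      (Finset.mem_univ φ)
    have : 2 * charDegree (φ : G → ℂ) ≤ m φ * charDegree (φ : G → ℂ) := Nat.mul_le_mul_right _ (by omega)
    omega
  · have h2 : m φ * charDegree (φ : G → ℂ) + m φ' * charDegree (φ' : G → ℂ) ≤ charDegree χ := by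
      rw [← hs, ← Finset.sum_pair (f := fun ψ => m ψ * charDegree (ψ : G → ℂ)) hne.symm]
      exact Finset.sum_le_sum_of_subset (Finset.subset_univ _)
    have h3 := Nat.le_mul_of_pos_left (charDegree (φ : G → ℂ)) (Nat.pos_of_ne_zero h0)
    have h4 := Nat.le_mul_of_pos_left (charDegree (φ' : G → ℂ)) (Nat.pos_of_ne_zero h0')
    omega

include hfaith hexp in
/-- Small constituents only: the Sylow subgroup is normal. -/
theorem normal_of_all_small (hsmall : ∀ φ, m φ ≠ 0 → 2 * charDegree (φ : G → ℂ) + 1 < p) (P : Sylow p G) :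
    (P : Subgroup G).Normal := by
  have hle : ∀ c : G, ∀ w ∈ (P : Subgroup G), ∀ φ, m φ ≠ 0 →
      ∃ v ∈ (P : Subgroup G), (φ : G → ℂ) (c * w * c⁻¹ * v) = (φ : G → ℂ) 1 := by
    intro c w hw φ h0
    haveI := charKer_normal (isCharacter_irr φ)
    obtain ⟨v, hv, he⟩ := (image_normal P φ (hsmall φ h0)).conj_mem _ (Subgroup.mem_map_of_mem _ hw)
      (QuotientGroup.mk' (charKer (isCharacter_irr φ)) c)
    refine ⟨v⁻¹, inv_mem hv, (mem_charKer _).1 ((QuotientGroup.eq_one_iff (N := charKer (isCharacter_irr φ)) _).1 ?_)⟩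
    rw [← QuotientGroup.mk'_apply, map_mul, map_mul, map_mul, map_inv, map_inv, he, mul_inv_cancel]
  set L : Subgroup G := ⨅ φ : {φ : IrrCharacter G // m φ ≠ 0},
    (P : Subgroup G) ⊔ charKer (isCharacter_irr φ.1) with hL
  have hLp : IsPGroup p L := by
    intro ⟨l, hl⟩
    obtain ⟨k, hk⟩ := IsPGroup.iff_card.1 P.2
    refine ⟨k, Subtype.ext (eq_one_of_kers hfaith hexp fun φ h0 => ?_)⟩
    haveI := charKer_normal (isCharacter_irr φ)
    have hl' := Subgroup.mem_iInf.1 hl ⟨φ, h0⟩
    obtain ⟨a, ha, b, hb, rfl⟩ := Subgroup.mem_sup_of_normal_right.1 hl'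
    have hone : a ^ p ^ k = 1 := by
      rw [← hk]
      exact congrArg Subtype.val (pow_card_eq_one' (x := (⟨a, ha⟩ : (P : Subgroup G))))
    refine (mem_charKer _).1 ((QuotientGroup.eq_one_iff (N := charKer (isCharacter_irr φ)) _).1 ?_)
    show ((((a * b) ^ p ^ k : G)) : G ⧸ charKer (isCharacter_irr φ)) = 1
    rw [QuotientGroup.mk_pow, QuotientGroup.mk_mul, (QuotientGroup.eq_one_iff b).2 hb, mul_one,
      ← QuotientGroup.mk_pow, hone, QuotientGroup.mk_one]
  have hPL : (P : Subgroup G) ≤ L := le_iInf fun _ => le_sup_left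
  rw [← P.3 hLp hPL]
  refine ⟨fun w hw c => Subgroup.mem_iInf.2 fun φ => ?_⟩
  haveI := charKer_normal (isCharacter_irr φ.1)
  obtain ⟨a, ha, b, hb, rfl⟩ := Subgroup.mem_sup_of_normal_right.1 (Subgroup.mem_iInf.1 hw φ)
  obtain ⟨v, hv, he⟩ := hle c a ha φ.1 φ.2
  rw [show c * (a * b) * c⁻¹ = c * a * c⁻¹ * v * (v⁻¹ * (c * b * c⁻¹)) by group]
  exact mul_mem (Subgroup.mem_sup_right ((mem_charKer _).2 he))
    (mul_mem (Subgroup.mem_sup_left (inv_mem hv))
      (Subgroup.mem_sup_right ((charKer_normal (isCharacter_irr φ.1)).conj_mem b hb c)))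

include hχ hfaith hexp in
/-- The index passes from the large constituent to the group. -/
theorem HasIndex.of_constituents (hn : charDegree χ + 2 ≤ p)
    (h : ∀ φ, m φ ≠ 0 → p ≤ 2 * charDegree (φ : G → ℂ) + 1 →
      haveI := charKer_normal (isCharacter_irr φ)
      HasIndex p (G ⧸ charKer (isCharacter_irr φ))) :
    HasIndex p G := by
  intro P
  by_cases hbig : ∀ φ, m φ ≠ 0 → 2 * charDegree (φ : G → ℂ) + 1 < p
  · haveI := normal_of_all_small hfaith hexp hbig P
    rw [Subgroup.normalCore_eq_self]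
    exact Nat.le_mul_of_pos_left _ hp.out.pos
  push Not at hbig
  obtain ⟨φ, h0, hb⟩ := hbig
  obtain ⟨-, huniq⟩ := big_unique hχ hexp hn h0 hb
  haveI := charKer_normal (isCharacter_irr φ)
  set f := QuotientGroup.mk' (charKer (isCharacter_irr φ))
  set Q := P.mapSurjective (QuotientGroup.mk'_surjective (charKer (isCharacter_irr φ)))
  set C := (Q : Subgroup (G ⧸ charKer (isCharacter_irr φ))).normalCore
  refine (card_le_mul f (P : Subgroup G) (Subgroup.normalCore_le _) (h φ h0 hb Q)).trans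
    (Nat.mul_le_mul_left _ (Subgroup.card_le_of_le ?_))
  -- the normal subgroup cut out by the images
  set L : Subgroup G := C.comap f ⊓ ⨅ φ' : {φ' : IrrCharacter G // φ' ≠ φ ∧ m φ' ≠ 0},
    (P : Subgroup G) ⊔ charKer (isCharacter_irr φ'.1) with hL
  haveI hLn : L.Normal := by
    rw [hL]
    haveI : (⨅ φ' : {φ' : IrrCharacter G // φ' ≠ φ ∧ m φ' ≠ 0},
        (P : Subgroup G) ⊔ charKer (isCharacter_irr φ'.1)).Normal := Subgroup.normal_iInf_normal fun φ' => by
      haveI := charKer_normal (isCharacter_irr φ'.1)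
      have h1 := image_normal P φ'.1 (huniq φ'.1 φ'.2.1 φ'.2.2)
      have h2 := h1.comap (QuotientGroup.mk' (charKer (isCharacter_irr φ'.1)))
      rwa [Subgroup.comap_map_eq, QuotientGroup.ker_mk'] at h2
    haveI : (C.comap f).Normal := (Subgroup.normalCore_normal (Q : Subgroup (G ⧸ charKer (isCharacter_irr φ)))).comap f
    exact Subgroup.normal_inf_normal _ _
  have hLp : IsPGroup p L := by
    intro ⟨l, hl⟩
    obtain ⟨k, hk⟩ := IsPGroup.iff_card.1 P.2
    obtain ⟨k', hk'⟩ := IsPGroup.iff_card.1 (core_isPGroup Q)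
    refine ⟨k + k', Subtype.ext (eq_one_of_kers hfaith hexp fun φ' h0' => ?_)⟩
    haveI := charKer_normal (isCharacter_irr φ')
    refine (mem_charKer _).1 ((QuotientGroup.eq_one_iff (N := charKer (isCharacter_irr φ')) _).1 ?_)
    show (((l ^ p ^ (k + k') : G)) : G ⧸ charKer (isCharacter_irr φ')) = 1
    rw [QuotientGroup.mk_pow]
    by_cases hne : φ' = φ
    · subst hne
      have h1 : f l ^ p ^ k' = 1 := by
        rw [← hk']
        exact congrArg Subtype.val (pow_card_eq_one' (x := (⟨f l, hl.1⟩ : C)))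
      rw [pow_add, mul_comm, pow_mul]
      rw [show ((l : G) : G ⧸ charKer (isCharacter_irr φ')) = f l from rfl, h1, one_pow]
    · obtain ⟨a, ha, b, hb', rfl⟩ := Subgroup.mem_sup_of_normal_right.1 (Subgroup.mem_iInf.1 hl.2 ⟨φ', hne, h0'⟩)
      have hone : a ^ p ^ k = 1 := by
        rw [← hk]
        exact congrArg Subtype.val (pow_card_eq_one' (x := (⟨a, ha⟩ : (P : Subgroup G))))
      rw [QuotientGroup.mk_mul, (QuotientGroup.eq_one_iff b).2 hb', mul_one, pow_add, pow_mul,
        ← QuotientGroup.mk_pow, hone, QuotientGroup.mk_one, one_pow]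
  exact (le_inf inf_le_right (le_trans inf_le_left (le_iInf fun _ => le_sup_left))).trans (le_core P (N := L) hLp)

/-- The core is central in an irreducible group with a Sylow subgroup that is not normal. -/
theorem core_le_center (χ : IrrCharacter G) (hfaith : ∀ g : G, (χ : G → ℂ) g = (χ : G → ℂ) 1 → g = 1)
    (hn : charDegree (χ : G → ℂ) + 2 ≤ p) (P : Sylow p G) (hP : ¬ (P : Subgroup G).Normal) :
    (P : Subgroup G).normalCore ≤ Subgroup.center G := by
  set R := (P : Subgroup G).normalCore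
  set C := Subgroup.centralizer (R : Set G) with hC
  haveI hCn : C.Normal := Subgroup.normal_centralizer
  have hab := CharDeep.SmallFaithful.pGroup_comm (isCharacter_irr χ) hfaith (by omega) P.2
  have hPC : (P : Subgroup G) ≤ C := fun x hx =>
    Subgroup.mem_centralizer_iff.2 fun y hy => hab y (Subgroup.normalCore_le _ hy) x hx
  have hres := IsCharacter.restrict (isCharacter_irr χ) C
  have hfC := fun (g : C) e => CharDeep.SmallFaithful.faithful_restrict hfaith C g e
  obtain ⟨m, hm, hexp⟩ := IsCharacter.exists_multiplicity hres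
  obtain ⟨θ, h0, hb⟩ : ∃ θ, m θ ≠ 0 ∧ p ≤ 2 * charDegree (θ : C → ℂ) + 1 := by
    by_contra hc
    push Not at hc
    refine hP ?_
    haveI := Sylow.characteristic_of_normal _ (normal_of_all_small hfC hexp hc (P.subtype hPC))
    have h := ConjAct.normal_of_characteristic_of_normal (K := ((P.subtype hPC : Sylow p C) : Subgroup C))
    rwa [Sylow.coe_subtype, Subgroup.subgroupOf_map_subtype, inf_eq_left.2 hPC] at h
  obtain ⟨-, huniq⟩ := big_unique hres hexp (p := p) hn h0 hb
  have hθ0 : classInner (fun c : C => (χ : G → ℂ) c) (θ : C → ℂ) ≠ 0 := by rw [hm]; exact_mod_cast h0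
  have hinv : ∀ (g : G) (c : C), (θ : C → ℂ) ⟨g * c * g⁻¹, hCn.conj_mem (c : G) c.2 g⟩ = (θ : C → ℂ) c := by
    intro g c
    set θ' : IrrCharacter C := ⟨CharDeep.Clifford.conjFun C g θ, CharDeep.Clifford.isIrrCharacter_conjFun C g θ.2⟩
    have h1 : θ' = θ := by
      by_contra hne
      have h0' : m θ' ≠ 0 := by
        intro h
        refine hθ0 ?_
        rw [← CharDeep.Clifford.classInner_restrict_conjFun C g (IsIrrCharacter.isClassFunction χ.2) (θ : C → ℂ)]
        rw [show CharDeep.Clifford.conjFun C g (θ : C → ℂ) = (θ' : C → ℂ) from rfl, hm, h, Nat.cast_zero]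
      have := huniq θ' hne h0'
      have hd : charDegree (θ' : C → ℂ) = charDegree (θ : C → ℂ) := by
        show charDegree (CharDeep.Clifford.conjFun C g θ) = _
        simp only [charDegree, CharDeep.Clifford.conjFun, Function.comp_apply, map_one]
      omega
    have h2 := congrFun (congrArg Subtype.val h1) c
    rwa [show (θ' : C → ℂ) c = CharDeep.Clifford.conjFun C g θ c from rfl, CharDeep.Clifford.conjFun_apply] at h2
  obtain ⟨e, he0, -, hval⟩ := CharDeep.Clifford.restrict_eq_smul C χ.2 θ.2 hθ0 hinv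
  have hde : charDegree (χ : G → ℂ) = e * charDegree (θ : C → ℂ) := by
    apply Nat.cast_injective (R := ℂ)
    have := congrFun hval 1
    rw [Pi.smul_apply, OneMemClass.coe_one, smul_eq_mul] at this
    rw [Nat.cast_mul, DegreeTools.deg_cast, DegreeTools.deg_cast, this]
  have he1 : e = 1 := by
    by_contra h
    have : 2 * charDegree (θ : C → ℂ) ≤ e * charDegree (θ : C → ℂ) := Nat.mul_le_mul_right _ (by omega)
    omega
  intro r hr
  have hrC : r ∈ C := hPC (Subgroup.normalCore_le _ hr)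
  have hrz : (⟨r, hrC⟩ : C) ∈ Subgroup.center C := Subgroup.mem_center_iff.2 fun c =>
    Subtype.ext (Subgroup.mem_centralizer_iff.1 c.2 r hr).symm
  obtain ⟨ω, hω, hmul⟩ := DegreeBound.apply_central_mul θ.2 hrz
  refine DegreeTools.mem_center_of_norm_eq χ hfaith r ?_
  have hv := congrFun hval ⟨r, hrC⟩
  have hm1 := hmul 1
  rw [mul_one] at hm1
  rw [he1, Nat.cast_one, Pi.smul_apply, one_smul] at hv
  rw [show (χ : G → ℂ) r = _ from hv, hm1, norm_mul, hω, one_mul, DegreeTools.norm_apply_one, hde, he1, one_mul]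

/-- A linear twist with the central part of the Sylow subgroup in its kernel. -/
theorem exists_twist_hom (χ : IrrCharacter G) (hfaith : ∀ g : G, (χ : G → ℂ) g = (χ : G → ℂ) 1 → g = 1)
    (hd : ¬ p ∣ charDegree (χ : G → ℂ)) :
    ∃ (δ : G →* ℂˣ) (ψ : IrrCharacter G), (∀ g, (ψ : G → ℂ) g = (δ g : ℂ) * (χ : G → ℂ) g) ∧
      (∀ g, ‖(ψ : G → ℂ) g‖ = ‖(χ : G → ℂ) g‖) ∧
      charDegree (ψ : G → ℂ) = charDegree (χ : G → ℂ) ∧
      charKer (isCharacter_irr ψ) ≤ Subgroup.center G ∧ IsPGroup p (charKer (isCharacter_irr ψ)) ∧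
      ∀ P : Sylow p G, (P : Subgroup G) ⊓ Subgroup.center G ≤ charKer (isCharacter_irr ψ) := by
  obtain ⟨n, ρ, hirr, hρ⟩ := χ.2
  have hdn : charDegree (χ : G → ℂ) = n := by
    rw [← hρ, charDegree, Representation.char_one, Module.finrank_fin_fun, Complex.natCast_re, Nat.floor_natCast]
  have hn0 : 0 < n := hdn ▸ DegreeTools.deg_pos χ
  set N := Nat.card G
  set a := N.factorization p
  set m' := N / p ^ a
  have hN : p ^ a * m' = N := Nat.ordProj_mul_ordCompl_eq_self N p
  have hcop : (p ^ a).Coprime m' :=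
    ((Nat.coprime_ordCompl hp.out Nat.card_pos.ne')).pow_left a
  have hpn : (p ^ a).Coprime n :=
    ((Nat.Prime.coprime_iff_not_dvd hp.out).2 fun h => hd (hdn.symm ▸ h)).pow_left a
  obtain ⟨i, hi⟩ : ∃ i, (n * i + 1) % p ^ a = 0 := by
    haveI : NeZero (p ^ a) := ⟨pow_ne_zero _ hp.out.ne_zero⟩
    refine ⟨(-(n : ZMod (p ^ a))⁻¹).val, ?_⟩
    refine Nat.mod_eq_zero_of_dvd ?_
    rw [← ZMod.natCast_eq_zero_iff]
    push_cast
    rw [ZMod.natCast_zmod_val, mul_neg, ZMod.coe_mul_inv_eq_one n hpn.symm, neg_add_cancel]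
  obtain ⟨j, hj⟩ := Nat.chineseRemainder hcop i 0
  set δ : G →* ℂˣ := (powMonoidHom j).comp (CharDeep.DetExt.detHom ρ) with hδ
  have hδN : ∀ g, δ g ^ p ^ a = 1 := by
    intro g
    obtain ⟨c, hc⟩ : m' ∣ j := Nat.modEq_zero_iff_dvd.1 hj.2
    show (CharDeep.DetExt.detHom ρ g ^ j) ^ p ^ a = 1
    rw [hc, ← pow_mul, ← map_pow, show m' * c * p ^ a = N * c by rw [← hN]; ring, pow_mul, pow_card_eq_one', one_pow,
      map_one]
  have hnorm : ∀ g, ‖(δ g : ℂ)‖ = 1 := fun g =>
    Complex.norm_eq_one_of_pow_eq_one (n := p ^ a) (by rw [← Units.val_pow_eq_pow_val, hδN, Units.val_one])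
      (pow_ne_zero _ hp.out.ne_zero)
  set f : G → ℂ := fun g => (δ g : ℂ) * (χ : G → ℂ) g with hf
  have hfc : Cfsg.IsCharacter G f := IsCharacter.mul (isCharacter_hom δ) (isCharacter_irr χ)
  have hfirr : Cfsg.IsIrrCharacter G f := IsCharacter.isIrrCharacter_of_norm_one hfc (by
    rw [← classInner_irr_self χ.2]
    simp only [Cfsg.classInner, hf]
    congr 1
    refine Finset.sum_congr rfl fun g _ => ?_
    rw [map_mul, mul_mul_mul_comm, Complex.mul_conj', hnorm]
    norm_num)
  have hnormf : ∀ g, ‖f g‖ = ‖(χ : G → ℂ) g‖ := fun g => by rw [hf, norm_mul, hnorm, one_mul]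
  have hf1 : f 1 = (χ : G → ℂ) 1 := by simp [hf]
  refine ⟨δ, ⟨f, hfirr⟩, fun g => rfl, hnormf, by show charDegree f = _; simp only [charDegree, hf1], ?_, ?_, ?_⟩
  · intro g hg
    refine DegreeTools.mem_center_of_norm_eq χ hfaith g ?_
    rw [← hnormf, show f g = f 1 from (mem_charKer _).1 hg, hf1, DegreeTools.norm_apply_one]
  · intro ⟨g, hg⟩
    refine ⟨a, Subtype.ext (hfaith _ ?_)⟩
    have h1 : (δ g : ℂ) * (χ : G → ℂ) g = (χ : G → ℂ) 1 := ((mem_charKer _).1 hg).trans hf1
    have hgn : ‖(χ : G → ℂ) g‖ = (Module.finrank ℂ (Fin n → ℂ) : ℝ) := by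
      rw [← hnormf, show f g = f 1 from (mem_charKer _).1 hg, hf1, DegreeTools.norm_apply_one, hdn,
        Module.finrank_fin_fun]
    obtain ⟨ω, -, hρg, hχg⟩ := exists_scalar_of_norm_char_eq ρ g (by rw [hρ]; exact hgn)
    have hω : (δ g : ℂ) * ω = 1 := by
      rw [← hρ, hχg, Representation.char_one, mul_comm (_ : ℂ) ω, ← mul_assoc] at h1
      exact mul_right_cancel₀ (by rw [Module.finrank_fin_fun]; exact_mod_cast hn0.ne') (h1.trans (one_mul _).symm)
    have hωp : ω ^ p ^ a = 1 := by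
      have := congrArg (fun z : ℂ => z ^ p ^ a) hω
      simp only [mul_pow, ← Units.val_pow_eq_pow_val, hδN, Units.val_one, one_mul, one_pow] at this
      exact this
    show (χ : G → ℂ) (g ^ p ^ a) = _
    rw [← hρ]
    simp only [Representation.character, map_pow, hρg, smul_pow, hωp, one_smul, map_one]
    rw [← Module.End.one_eq_id, one_pow]
  · intro P z hz
    refine (mem_charKer _).2 ?_
    obtain ⟨c, hc⟩ := exists_eq_smul_of_commute ρ (ρ z) fun g => by
      rw [← Module.End.mul_eq_comp, ← Module.End.mul_eq_comp, ← map_mul, ← map_mul,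
        Subgroup.mem_center_iff.mp hz.2 g]
    haveI : Nontrivial (Fin n → ℂ) := Module.finrank_pos_iff.mp (by rw [Module.finrank_fin_fun]; exact hn0)
    have hzp : z ^ p ^ a = 1 := by
      have h := pow_card_eq_one' (x := (⟨z, hz.1⟩ : (P : Subgroup G)))
      rw [P.card_eq_multiplicity] at h
      exact congrArg Subtype.val h
    have hcp : c ^ p ^ a = 1 := by
      have h : ρ (z ^ p ^ a) = c ^ p ^ a • (1 : Module.End ℂ (Fin n → ℂ)) := by
        rw [map_pow, hc, ← Module.End.one_eq_id, smul_pow, one_pow]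
      rw [hzp, map_one] at h
      exact (smul_left_injective ℂ (one_ne_zero (α := Module.End ℂ (Fin n → ℂ))) (h.symm.trans (one_smul ℂ _).symm))
    show f z = f 1
    rw [hf1]
    show (δ z : ℂ) * (χ : G → ℂ) z = _
    have hdet : (δ z : ℂ) = c ^ (n * j) := by
      show (((CharDeep.DetExt.detHom ρ z) ^ j : ℂˣ) : ℂ) = _
      rw [Units.val_pow_eq_pow_val, CharDeep.DetExt.coe_detHom, hc, LinearMap.det_smul, LinearMap.det_id, mul_one,
        Module.finrank_fin_fun, pow_mul]
    have hone : (n * j + 1) % p ^ a = 0 := by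
      rw [← hi]
      exact ((Nat.ModEq.mul_left n hj.1).add_right 1)
    rw [hdet, ← hρ]
    simp only [Representation.character, hc, map_smul, map_one, ← Module.End.one_eq_id, smul_eq_mul]
    rw [← mul_assoc, ← pow_succ, ← Nat.mod_add_div (n * j + 1) (p ^ a), hone, zero_add, pow_mul, hcp, one_pow, one_mul]

theorem exists_twist (χ : IrrCharacter G) (hfaith : ∀ g : G, (χ : G → ℂ) g = (χ : G → ℂ) 1 → g = 1)
    (hd : charDegree (χ : G → ℂ) < p) :
    ∃ ψ : IrrCharacter G, (∀ g, ‖(ψ : G → ℂ) g‖ = ‖(χ : G → ℂ) g‖) ∧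
      charDegree (ψ : G → ℂ) = charDegree (χ : G → ℂ) ∧
      charKer (isCharacter_irr ψ) ≤ Subgroup.center G ∧ IsPGroup p (charKer (isCharacter_irr ψ)) ∧
      ∀ P : Sylow p G, (P : Subgroup G) ⊓ Subgroup.center G ≤ charKer (isCharacter_irr ψ) := by
  obtain ⟨δ, ψ, -, h⟩ := exists_twist_hom (p := p) χ hfaith fun h => by
    have := Nat.le_of_dvd (DegreeTools.deg_pos χ) h
    omega
  exact ⟨ψ, h⟩

end CfsgLib.Char.FeitDegree.Index
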