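import Cfsg.Agent.Lib.Char.FeitDegree.Index.Main

/-!
# A shared eigenvalue beside a constituent of degree `(p - 1) / 2`
-/

set_option autoImplicit false

open scoped Classical ComplexConjugate commutatorElement

namespace CfsgLib.Char.FeitDegree.Index

open Cfsg CfsgLib CfsgLib.Blocks CfsgLib.Blocks.DefectOne

universe u

variable {G : Type u} [Group G] [Fintype G] {p : ℕ} [hp : Fact p.Prime]

/-- No element has two eigenvalues in a ratio of order at least seven and nontrivial `p`-powers. -/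
def NoTwo (p : ℕ) (χ : G → ℂ) : Prop :=
  ∀ (g : G) (N : ℕ) (a b : ℂ) (m n : ℕ), 7 ≤ N → a ^ orderOf g = 1 → b ^ orderOf g = 1 →
    IsPrimitiveRoot (b / a) N → 0 < m → 0 < n → (∀ k : ℕ, χ (g ^ k) = m * a ^ k + n * b ^ k) →
    (∀ t : ℕ, t.Coprime N → ∃ i, IsPGroup p (Subgroup.zpowers ((g ^ t) ^ i)) ∧ (g ^ t) ^ i ≠ 1) → False

/-- `y` acts by the scalar `ω`. -/
def Scal (φ : G → ℂ) (y : G) (ω : ℂ) : Prop := ∀ g, φ (y * g) = ω * φ g

namespace Scal

variable {φ : G → ℂ} {y y' : G} {ω ω' : ℂ}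

omit [Fintype G] in
theorem apply (h : Scal φ y ω) : φ y = ω * φ 1 := by simpa using h 1

omit [Fintype G] in
theorem mul (h : Scal φ y ω) (h' : Scal φ y' ω') : Scal φ (y * y') (ω * ω') := fun g => by
  rw [mul_assoc, h, h', mul_assoc]

omit [Fintype G] in
theorem pow (h : Scal φ y ω) : ∀ n : ℕ, Scal φ (y ^ n) (ω ^ n)
  | 0 => fun g => by simp
  | n + 1 => by rw [pow_succ, pow_succ]; exact (pow h n).mul h

omit [Fintype G] in
theorem inv (h : Scal φ y ω) (hω : ω ≠ 0) : Scal φ y⁻¹ ω⁻¹ := fun g => by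
  rw [eq_inv_mul_iff_mul_eq₀ hω, ← h, mul_inv_cancel_left]

omit [Fintype G] in
theorem conjugate (h : Scal φ y ω) (hc : ∀ a b, φ (b * a * b⁻¹) = φ a) (k : G) : Scal φ (k * y * k⁻¹) ω := fun g => by
  rw [← hc (k * y * k⁻¹ * g) k⁻¹, show k⁻¹ * (k * y * k⁻¹ * g) * k⁻¹⁻¹ = y * (k⁻¹ * g * k⁻¹⁻¹) by group, h, hc]

omit [Fintype G] in
theorem pow_eq_one (h : Scal φ y ω) (h1 : φ 1 ≠ 0) {n : ℕ} (hn : y ^ n = 1) : ω ^ n = 1 := by
  have h2 := (h.pow n).apply
  rw [hn] at h2
  exact (mul_eq_right₀ h1).1 h2.symm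

end Scal

/-- An element of full norm acts by a scalar. -/
theorem scal_of_apply (φ : IrrCharacter G) {y : G} {ω : ℂ} (h : (φ : G → ℂ) y = ω * (φ : G → ℂ) 1)
    (hω : ‖ω‖ = 1) : Scal (φ : G → ℂ) y ω := by
  obtain ⟨n, ρ, hirr, hρ⟩ := φ.2
  have h1 : ρ.character 1 = (Module.finrank ℂ (Fin n → ℂ) : ℂ) := Representation.char_one ρ
  obtain ⟨ω', -, hy, hχ⟩ := exists_scalar_of_norm_char_eq ρ y (by
    rw [hρ, h, norm_mul, hω, one_mul, ← hρ, h1, Complex.norm_natCast])
  have he : ω' = ω := by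
    have hn : (Module.finrank ℂ (Fin n → ℂ) : ℂ) ≠ 0 := h1 ▸ hρ.symm ▸ irr_one_ne_zero φ
    refine mul_right_cancel₀ hn ?_
    rw [mul_comm ω', ← hχ, ← h1, hρ, h]
  intro g
  rw [← hρ]
  show LinearMap.trace ℂ _ (ρ (y * g)) = ω * LinearMap.trace ℂ _ (ρ g)
  rw [map_mul, hy, he, smul_mul_assoc, ← Module.End.one_eq_id, one_mul, map_smul, smul_eq_mul]

/-- Degree two and an odd derived group leave a normal Sylow subgroup. -/
theorem false_of_odd_commutator (hp5 : 5 ≤ p) {P : Sylow p G} (hP : Nat.card P = p)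
    (hnn : ¬ (P : Subgroup G).Normal) (ψ : IrrCharacter G)
    (hfaith : ∀ g : G, (ψ : G → ℂ) g = (ψ : G → ℂ) 1 → g = 1) (hd : charDegree (ψ : G → ℂ) = 2)
    (hodd : ¬ 2 ∣ Nat.card (commutator G)) : False := by
  set N := commutator G with hN
  have hres := IsCharacter.restrict (isCharacter_irr ψ) N
  have hfN := fun (g : N) e => CharDeep.SmallFaithful.faithful_restrict hfaith N g e
  obtain ⟨m, -, hexp⟩ := IsCharacter.exists_multiplicity hres
  have hlin : ∀ θ, m θ ≠ 0 → (θ : N → ℂ) 1 = 1 := by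
    intro θ h0
    have h1 := Finset.single_le_sum (f := fun x => m x * charDegree (x : N → ℂ)) (fun _ _ => Nat.zero_le _)
      (Finset.mem_univ θ)
    have h2 := Nat.le_mul_of_pos_left (charDegree (θ : N → ℂ)) (Nat.pos_of_ne_zero h0)
    have h3 := sum_deg hres hexp
    have h4 : charDegree (fun x : N => (ψ : G → ℂ) x) = charDegree (ψ : G → ℂ) := rfl
    have h5 := DegreeTools.deg_pos θ
    have h6 : charDegree (θ : N → ℂ) ≠ 2 := fun e => hodd (e ▸ DegreeTools.deg_dvd_card θ)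
    rw [irr_one_eq, show charDegree (θ : N → ℂ) = 1 by omega, Nat.cast_one]
  have hcomm : ∀ a b : N, a * b = b * a := by
    intro a b
    rw [← mul_inv_eq_one]
    refine eq_one_of_kers hfN hexp fun θ h0 => ?_
    obtain ⟨l, hl⟩ := exists_hom_of_apply_one_eq_one (isCharacter_irr θ) (hlin θ h0)
    rw [hl]
    have h1 : l (a * b * (b * a)⁻¹) = l 1 := by rw [map_mul, map_mul, map_inv, map_mul, mul_comm (l b), mul_inv_cancel, map_one]
    exact congrArg Units.val h1
  haveI : IsMulCommutative N := ⟨⟨hcomm⟩⟩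
  have hpN : ¬ p ∣ Nat.card N := by
    intro hdvd
    obtain ⟨R⟩ : Nonempty (Sylow p N) := inferInstance
    haveI hRn : (R : Subgroup N).Normal := ⟨fun r hr g => by rwa [hcomm g r, mul_inv_cancel_right]⟩
    haveI := Sylow.characteristic_of_normal R hRn
    haveI hMn : ((R : Subgroup N).map N.subtype).Normal := ConjAct.normal_of_characteristic_of_normal
    have hle := le_sylow P (R.2.map N.subtype)
    have hcard : Nat.card ((R : Subgroup N).map N.subtype) = Nat.card (R : Subgroup N) :=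
      Subgroup.card_map_of_injective N.subtype_injective
    have hdR : p ∣ Nat.card (R : Subgroup N) := R.dvd_card_of_dvd_card hdvd
    refine hnn (Subgroup.eq_of_le_of_card_ge hle ?_ ▸ hMn)
    rw [hcard]
    exact hP.le.trans (Nat.le_of_dvd Nat.card_pos hdR)
  refine hnn (normal_of_kernel (isCharacter_irr ψ) hfaith (by omega) P N hpN ⟨fun x hx g => ?_⟩)
  rw [show g * x * g⁻¹ = ⁅g, x⁆ * x by rw [commutatorElement_def, inv_mul_cancel_right]]
  refine mul_mem (Subgroup.mem_sup_left ?_) hx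
  exact Subgroup.commutator_mem_commutator (Subgroup.mem_top g) (Subgroup.mem_top x)

section
variable {χ : G → ℂ} (hχ : Cfsg.IsCharacter G χ) (hfaith : ∀ g : G, χ g = χ 1 → g = 1) {m : IrrCharacter G → ℕ}
  (hexp : ∀ g, χ g = ∑ φ, (m φ : ℂ) * (φ : G → ℂ) g) {φ : IrrCharacter G}

include hfaith hexp in
/-- An involution of determinant one beside linear characters. -/
theorem exists_neg (hφ : charDegree (φ : G → ℂ) = 2) (hlin : ∀ φ', φ' ≠ φ → m φ' ≠ 0 → (φ' : G → ℂ) 1 = 1)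
    (hev : 2 ∣ Nat.card (commutator G)) :
    ∃ i : G, Scal (φ : G → ℂ) i (-1) ∧ ∀ φ', φ' ≠ φ → m φ' ≠ 0 → Scal (φ' : G → ℂ) i 1 := by
  haveI : Fact (Nat.Prime 2) := ⟨Nat.prime_two⟩
  obtain ⟨⟨i, hi⟩, ho⟩ := exists_prime_orderOf_dvd_card' 2 hev
  rw [Subgroup.orderOf_mk] at ho
  have hhom : ∀ f : G →* ℂˣ, f i = 1 := fun f => MonoidHom.mem_ker.1 (Abelianization.commutator_subset_ker f hi)
  have hrest : ∀ φ', φ' ≠ φ → m φ' ≠ 0 → (φ' : G → ℂ) i = 1 * (φ' : G → ℂ) 1 := by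
    intro φ' hne h0
    obtain ⟨l, hl⟩ := exists_hom_of_apply_one_eq_one (isCharacter_irr φ') (hlin φ' hne h0)
    simp [hl, hhom]
  refine ⟨i, scal_of_apply φ ?_ (by norm_num), fun φ' hne h0 => scal_of_apply φ' (hrest φ' hne h0) (by norm_num)⟩
  obtain ⟨n, ρ, hirr, hρ⟩ := φ.2
  have hn : n = 2 := by
    rw [← hφ, ← hρ, charDegree, Representation.char_one, Module.finrank_fin_fun, Complex.natCast_re, Nat.floor_natCast]
  subst hn
  obtain ⟨B, μ, hμ1, hμ2⟩ := exists_eigenbasis ρ i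
  have hcard : Fintype.card _ = 2 := (Module.finrank_eq_card_basis B).symm.trans (Module.finrank_fin_fun ℂ)
  have hsq : ∀ j, μ j = 1 ∨ μ j = -1 := fun j => sq_eq_one_iff.1 (ho ▸ hμ1 j)
  have hdet : ∏ j, μ j = 1 := by
    have h1 : ((CharDeep.DetExt.detHom ρ i : ℂˣ) : ℂ) = 1 := by rw [hhom, Units.val_one]
    rw [CharDeep.DetExt.coe_detHom, ← LinearMap.det_toMatrix B] at h1
    rw [← h1, ← Matrix.det_diagonal]
    congr 1
    refine Matrix.ext fun a b => ?_
    rw [LinearMap.toMatrix_apply, show ρ i (B b) = μ b • B b by simpa using hμ2 1 b, map_smul, Finsupp.smul_apply,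
      B.repr_self, Matrix.diagonal_apply, Finsupp.single_apply]
    by_cases h : a = b
    · subst h; simp
    · rw [if_neg h, if_neg (Ne.symm h), smul_zero]
  have htr : (φ : G → ℂ) i = ∑ j, μ j := by
    rw [← hρ]
    have := trace_eq_sum_of_eigen _ B _ (hμ2 1)
    simpa [Representation.character] using this
  obtain ⟨a, b, hab, huniv⟩ := Finset.card_eq_two.1 (Finset.card_univ.trans hcard)
  rw [huniv, Finset.prod_pair hab] at hdet
  rw [huniv, Finset.sum_pair hab] at htr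
  rw [irr_one_eq, hφ, htr]
  rcases hsq a with ha | ha <;> rw [ha] at hdet htr ⊢
  · exfalso
    rw [one_mul] at hdet
    rw [hdet] at htr
    have hi1 : i = 1 := by
      refine eq_one_of_kers hfaith hexp fun φ' h0 => ?_
      by_cases hne : φ' = φ
      · subst hne
        rw [htr, irr_one_eq, hφ]; norm_num
      · rw [hrest φ' hne h0, one_mul]
    rw [hi1, orderOf_one] at ho
    omega
  · rw [neg_one_mul, neg_eq_iff_eq_neg] at hdet
    rw [hdet]; push_cast; ring

include hχ hfaith hexp in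
/-- The edge configuration does not occur. -/
theorem false_of_edge (hp5 : 5 ≤ p) (hTwo : NoTwo p χ) (hm1 : m φ = 1) {t : ℕ} (ht : 2 * t + 1 = p)
    (hφ : charDegree (φ : G → ℂ) = t)
    (hrest : ∑ φ' ∈ Finset.univ.erase φ, m φ' * charDegree (φ' : G → ℂ) = t - 1)
    (hidx : haveI := charKer_normal (isCharacter_irr φ); HasIndex p (G ⧸ charKer (isCharacter_irr φ)))
    (hQ : haveI := charKer_normal (isCharacter_irr φ)
      ∀ Q : Sylow p (G ⧸ charKer (isCharacter_irr φ)), ¬ (Q : Subgroup (G ⧸ charKer (isCharacter_irr φ))).Normal)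
    {v : G} (hvp : IsPGroup p (Subgroup.zpowers v)) (hb : Big χ v t) (hfree : Free (φ : G → ℂ) v)
    (hnc : haveI := charKer_normal (isCharacter_irr φ)
      QuotientGroup.mk' (charKer (isCharacter_irr φ)) v ∉ Subgroup.center (G ⧸ charKer (isCharacter_irr φ))) :
    False := by
  haveI := charKer_normal (isCharacter_irr φ)
  letI := Fintype.ofFinite (G ⧸ charKer (isCharacter_irr φ))
  obtain ⟨η, heη, hηf, hηd⟩ := exists_image φ
  set f₀ := QuotientGroup.mk' (charKer (isCharacter_irr φ))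
  -- the repeated eigenvalue
  obtain ⟨μ, k, hk, he⟩ := hb
  choose c hc using fun ψ : IrrCharacter G => IsCharacter.classInner_nat
    (IsCharacter.restrict (isCharacter_irr ψ) (Subgroup.zpowers v)) (isCharacter_irr μ)
  have hkc : k = ∑ ψ, m ψ * c ψ := by
    apply Nat.cast_injective (R := ℂ)
    rw [← he, show (fun h : Subgroup.zpowers v => χ h) = ∑ ψ, (m ψ : ℂ) • fun h : Subgroup.zpowers v => (ψ : G → ℂ) h
      from funext fun h => by rw [hexp]; simp [Finset.sum_apply], classInner_sum_left, Nat.cast_sum]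
    exact Finset.sum_congr rfl fun ψ _ => by rw [classInner_smul_left, hc, Nat.cast_mul]
  have hle : ∀ ψ, c ψ ≤ charDegree (ψ : G → ℂ) := fun ψ =>
    le_charDegree (isCharacter_irr ψ) ⟨μ, c ψ, le_rfl, hc ψ⟩
  have hc1 : c φ ≤ 1 := not_lt.1 fun h => not_big_two (isCharacter_irr φ) hfree ⟨μ, c φ, h, hc φ⟩
  rw [← Finset.add_sum_erase _ _ (Finset.mem_univ φ), hm1, one_mul] at hkc
  have hsumle : ∑ ψ ∈ Finset.univ.erase φ, m ψ * c ψ ≤ ∑ ψ ∈ Finset.univ.erase φ, m ψ * charDegree (ψ : G → ℂ) :=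
    Finset.sum_le_sum fun ψ _ => Nat.mul_le_mul_left _ (hle ψ)
  have hcφ : c φ = 1 := by omega
  have hall := (Finset.sum_eq_sum_iff_of_le fun ψ _ => Nat.mul_le_mul_left _ (hle ψ)).1
    (show ∑ ψ ∈ Finset.univ.erase φ, m ψ * c ψ = ∑ ψ ∈ Finset.univ.erase φ, m ψ * charDegree (ψ : G → ℂ) by omega)
  obtain ⟨l, hl⟩ := exists_hom_of_apply_one_eq_one (isCharacter_irr μ) (irr_zpowers_one μ)
  obtain ⟨e, he'⟩ := IsPGroup.iff_card.1 hvp
  rw [Nat.card_zpowers] at he'
  set mu : ℂ := (l ⟨v, Subgroup.mem_zpowers v⟩ : ℂ) with hmu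
  have hmupow : mu ^ p ^ e = 1 := by
    rw [hmu, ← he', ← Units.val_pow_eq_pow_val, ← map_pow, show (⟨v, Subgroup.mem_zpowers v⟩ : Subgroup.zpowers v) ^
      orderOf v = 1 from Subtype.ext (pow_orderOf_eq_one v), map_one, Units.val_one]
  have hpe : p ^ e ≠ 0 := pow_ne_zero _ hp.out.ne_zero
  have hmun : ‖mu‖ = 1 := Complex.norm_eq_one_of_pow_eq_one hmupow hpe
  have hmu0 : mu ≠ 0 := fun h => by rw [h, norm_zero] at hmun; exact zero_ne_one hmun
  have hS : ∀ φ', φ' ≠ φ → m φ' ≠ 0 → Scal (φ' : G → ℂ) v mu := by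
    intro φ' hne h0
    refine scal_of_apply φ' ?_ hmun
    have hcd : c φ' = charDegree (φ' : G → ℂ) :=
      Nat.eq_of_mul_eq_mul_left (Nat.pos_of_ne_zero h0) (hall φ' (Finset.mem_erase.2 ⟨hne, Finset.mem_univ _⟩))
    obtain ⟨m', hm', hexp'⟩ := IsCharacter.exists_multiplicity
      (IsCharacter.restrict (isCharacter_irr φ') (Subgroup.zpowers v))
    have hmμ : m' μ = charDegree (φ' : G → ℂ) :=
      (Nat.cast_injective (R := ℂ) ((hm' μ).symm.trans (hc φ'))).trans hcd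
    have hs : ∑ ψ, m' ψ = charDegree (φ' : G → ℂ) := by
      apply Nat.cast_injective (R := ℂ)
      have h1 := hexp' 1
      rw [OneMemClass.coe_one, irr_one_eq] at h1
      rw [Nat.cast_sum, h1]
      exact Finset.sum_congr rfl fun ψ _ => by rw [irr_zpowers_one, mul_one]
    rw [← Finset.add_sum_erase _ _ (Finset.mem_univ μ), hmμ] at hs
    rw [show (φ' : G → ℂ) v = _ from hexp' ⟨v, Subgroup.mem_zpowers v⟩, Finset.sum_eq_single μ (fun ψ _ hψ => ?_)
      (fun h => absurd (Finset.mem_univ _) h), hmμ, hl, irr_one_eq, mul_comm mu]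
    have := Finset.single_le_sum (f := fun ψ => m' ψ) (fun _ _ => Nat.zero_le _)
      (Finset.mem_erase.2 ⟨hψ, Finset.mem_univ ψ⟩)
    rw [show m' ψ = 0 by omega, Nat.cast_zero, zero_mul]
  -- the twist
  obtain ⟨δ, ψ, hψ, -, hψd, hKZ, hKp, hPK⟩ := exists_twist_hom (p := p) η hηf fun h => by
    have := Nat.le_of_dvd (DegreeTools.deg_pos η) h
    omega
  haveI := charKer_normal (isCharacter_irr ψ)
  set K := charKer (isCharacter_irr ψ)
  letI := Fintype.ofFinite ((G ⧸ charKer (isCharacter_irr φ)) ⧸ K)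
  obtain ⟨ψ', heψ, hψf, hψd'⟩ := exists_image ψ
  set f₁ := QuotientGroup.mk' K
  have hd' : charDegree (ψ' : _ ⧸ K → ℂ) = t := by rw [hψd', hψd, hηd, hφ]
  obtain ⟨P₀⟩ : Nonempty (Sylow p (G ⧸ charKer (isCharacter_irr φ))) := inferInstance
  obtain ⟨hQ1, hQ1n⟩ := sylow_quotient η hηf (by rw [hηd, hφ]; omega) P₀ (hQ P₀) hidx K hKp hPK
  set Q := P₀.mapSurjective (QuotientGroup.mk'_surjective K)
  set w := f₁ (f₀ v) with hw
  have hwo : orderOf w = p := by
    have h1 : orderOf w ∣ Nat.card (Q : Subgroup (_ ⧸ K)) := orderOf_pElt (by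
      rw [hw, ← MonoidHom.map_zpowers, ← MonoidHom.map_zpowers]
      exact (hvp.map f₀).map f₁) Q
    rw [show Nat.card (Q : Subgroup (_ ⧸ K)) = p from hQ1] at h1
    rcases (Nat.dvd_prime hp.out).1 h1 with h | h
    · exact absurd (hKZ ((QuotientGroup.eq_one_iff _).1 (orderOf_eq_one_iff.1 h))) hnc
    · exact h
  obtain ⟨D⟩ := exists_frame Q hQ1
  obtain ⟨θ₀, B⟩ := DegHalf.exists_data D ψ' ⟨hp5, by rw [hd']; exact ht, hψf, hQ1n⟩
  obtain ⟨n, hn⟩ : ∃ n : nrm Q, D.act n ≠ 1 := by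
    by_contra hall'
    push Not at hall'
    have hbot : D.act.range = ⊥ := MonoidHom.range_eq_bot_iff.2 (MonoidHom.ext hall')
    have h1 := B.range
    rw [hbot, Subgroup.card_bot, hd'] at h1
    omega
  set a := ((D.act n : ZMod p)).val with ha
  have ha2 : 2 ≤ a ∧ a < p := by
    refine ⟨?_, ZMod.val_lt _⟩
    by_contra h
    rcases (show a = 0 ∨ a = 1 by omega) with h | h
    · exact Units.ne_zero (D.act n) ((ZMod.val_eq_zero _).1 h)
    · refine hn (Units.ext ?_)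
      rw [← ZMod.natCast_zmod_val (D.act n : ZMod p), ← ha, h, Nat.cast_one, Units.val_one]
  obtain ⟨g, hg⟩ := exists_conj_sylow hQ1 hwo
  obtain ⟨j, hj⟩ : ∃ j : ℕ, D.x ^ j = g * w * g⁻¹ := by
    have h1 : g * w * g⁻¹ ∈ Subgroup.zpowers D.x := by
      rw [D.zp, hg]
      exact ⟨w, Subgroup.mem_zpowers w, rfl⟩
    exact mem_powers_iff_mem_zpowers.2 h1
  obtain ⟨k₀, hk₀⟩ := ((QuotientGroup.mk'_surjective K).comp (QuotientGroup.mk'_surjective _))
    (g⁻¹ * (n : _ ⧸ K) * g)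
  have hconj : f₁ (f₀ (k₀ * v * k₀⁻¹)) = w ^ a := by
    rw [map_mul, map_mul, map_inv, map_mul, map_mul, map_inv, show f₁ (f₀ k₀) = _ from hk₀, ← hw]
    calc g⁻¹ * (n : _ ⧸ K) * g * w * (g⁻¹ * (n : _ ⧸ K) * g)⁻¹
        = g⁻¹ * ((n : _ ⧸ K) * (g * w * g⁻¹) * (n : _ ⧸ K)⁻¹) * g := by group
      _ = g⁻¹ * ((g * w * g⁻¹) ^ a) * g := by
        rw [← hj, ← _root_.conj_pow, D.conj_x, ← ha, ← pow_mul, ← pow_mul, mul_comm]
      _ = w ^ a := by rw [_root_.conj_pow]; group
  set z := v ^ a * (k₀ * v * k₀⁻¹)⁻¹ with hz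
  have hzK : f₀ z ∈ K := by
    rw [← QuotientGroup.eq_one_iff]
    show f₁ (f₀ z) = 1
    rw [hz, map_mul, map_mul, map_inv, map_inv, hconj, map_pow, map_pow, ← hw, mul_inv_cancel]
  set dv : ℂ := (δ (f₀ v) : ℂ) with hdv
  have hdv0 : dv ≠ 0 := Units.ne_zero _
  have hdvpow : dv ^ p ^ e = 1 := by
    rw [hdv, ← he', ← Units.val_pow_eq_pow_val, ← map_pow, ← map_pow, pow_orderOf_eq_one, map_one, map_one,
      Units.val_one]
  have hδz : (δ (f₀ z) : ℂ) = dv ^ a * dv⁻¹ := by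
    simp only [hz, map_mul, map_pow, map_inv, Units.val_mul, Units.val_pow_eq_pow_val, Units.val_inv_eq_inv_val,
      ← hdv]
    field_simp
  set s : ℂ := (dv ^ a * dv⁻¹)⁻¹ with hs
  set ω : ℂ := mu ^ a * mu⁻¹ with hω
  have hs0 : s ≠ 0 := inv_ne_zero (mul_ne_zero (pow_ne_zero _ hdv0) (inv_ne_zero hdv0))
  have hspow : s ^ p ^ e = 1 := by
    rw [hs, inv_pow, mul_pow, inv_pow, ← pow_mul, mul_comm a, pow_mul, hdvpow, one_pow, inv_one, mul_one, inv_one]
  have hωpow : ω ^ p ^ e = 1 := by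
    rw [hω, mul_pow, inv_pow, ← pow_mul, mul_comm a, pow_mul, hmupow, one_pow, inv_one, mul_one]
  have hzφ : Scal (φ : G → ℂ) z s := by
    refine scal_of_apply φ ?_ (Complex.norm_eq_one_of_pow_eq_one hspow hpe)
    have h1 := (mem_charKer (isCharacter_irr ψ)).1 hzK
    rw [hψ, hψ, map_one δ, Units.val_one, one_mul, hδz] at h1
    rw [show (φ : G → ℂ) z = (η : _ → ℂ) (f₀ z) from congrFun heη z,
      show (φ : G → ℂ) 1 = (η : _ → ℂ) (f₀ 1) from congrFun heη 1, map_one, hs, ← h1,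
      inv_mul_cancel_left₀ (mul_ne_zero (pow_ne_zero _ hdv0) (inv_ne_zero hdv0))]
  have hzr : ∀ φ', φ' ≠ φ → m φ' ≠ 0 → Scal (φ' : G → ℂ) z ω := fun φ' hne h0 =>
    ((hS φ' hne h0).pow a).mul (((hS φ' hne h0).conjugate (fun x y => IsIrrCharacter.isClassFunction φ'.2 x y) k₀).inv hmu0)
  have hpelt : ∀ y : G, ∀ A B : ℂ, Scal (φ : G → ℂ) y A → (∀ φ', φ' ≠ φ → m φ' ≠ 0 → Scal (φ' : G → ℂ) y B) →
      A ^ p ^ e = 1 → B ^ p ^ e = 1 → IsPGroup p (Subgroup.zpowers y) := by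
    intro y A B hA hB hA1 hB1
    have h1 : y ^ p ^ e = 1 := eq_one_of_kers hfaith hexp fun φ' h0 => by
      by_cases hne : φ' = φ
      · subst hne
        rw [(hA.pow _).apply, hA1, one_mul]
      · rw [((hB φ' hne h0).pow _).apply, hB1, one_mul]
    obtain ⟨i, -, hi⟩ := (Nat.dvd_prime_pow hp.out).1 (orderOf_dvd_of_pow_eq_one h1)
    exact IsPGroup.of_card (n := i) (by rw [Nat.card_zpowers, hi])
  obtain ⟨φ₀, hne₀, h0₀⟩ : ∃ φ', φ' ≠ φ ∧ m φ' ≠ 0 := by
    by_contra hall'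
    push Not at hall'
    rw [Finset.sum_eq_zero fun ψ hψ => by rw [hall' ψ (Finset.ne_of_mem_erase hψ), zero_mul]] at hrest
    omega
  have hone : ∀ A B : ℂ, Scal (φ : G → ℂ) 1 A → (∀ φ', φ' ≠ φ → m φ' ≠ 0 → Scal (φ' : G → ℂ) 1 B) → A = B :=
    fun A B hA hB => by
      rw [← pow_one A, ← pow_one B, hA.pow_eq_one (irr_one_ne_zero φ) (pow_one 1),
        (hB φ₀ hne₀ h0₀).pow_eq_one (irr_one_ne_zero φ₀) (pow_one 1)]
  have two : ∀ (y : G) (N i : ℕ) (A B : ℂ), 7 ≤ N → Scal (φ : G → ℂ) y A →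
      (∀ φ', φ' ≠ φ → m φ' ≠ 0 → Scal (φ' : G → ℂ) y B) → IsPrimitiveRoot (B / A) N →
      (A ^ i) ^ p ^ e = 1 → (B ^ i) ^ p ^ e = 1 → (∀ u : ℕ, u.Coprime N → (A ^ u) ^ i ≠ (B ^ u) ^ i) → False := by
    intro y N i A B hN hA hB hr hA1 hB1 hne
    refine hTwo y N A B t (t - 1) hN (hA.pow_eq_one (irr_one_ne_zero φ) (pow_orderOf_eq_one y))
      ((hB φ₀ hne₀ h0₀).pow_eq_one (irr_one_ne_zero φ₀) (pow_orderOf_eq_one y)) hr (by omega) (by omega) ?_ ?_
    · intro q
      rw [hexp, ← Finset.add_sum_erase _ _ (Finset.mem_univ φ), hm1, Nat.cast_one, one_mul, (hA.pow q).apply,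
        irr_one_eq, hφ, mul_comm, ← hrest, Nat.cast_sum, Finset.sum_mul]
      congr 1
      refine Finset.sum_congr rfl fun φ' hφ' => ?_
      by_cases h0 : m φ' = 0
      · simp [h0]
      rw [((hB φ' (Finset.ne_of_mem_erase hφ') h0).pow q).apply, irr_one_eq, Nat.cast_mul]
      ring
    · intro u hu
      refine ⟨i, hpelt _ _ _ ((hA.pow u).pow i) (fun φ' h1 h2 => ((hB φ' h1 h2).pow u).pow i) ?_ ?_, fun h1 => ?_⟩
      · rw [← pow_mul A, mul_comm u, pow_mul, ← pow_mul, mul_comm u, pow_mul, hA1, one_pow]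
      · rw [← pow_mul B, mul_comm u, pow_mul, ← pow_mul, mul_comm u, pow_mul, hB1, one_pow]
      · exact hne u hu (hone _ _ (h1 ▸ (hA.pow u).pow i) (fun φ' h2 h3 => h1 ▸ ((hB φ' h2 h3).pow u).pow i))
  by_cases hsω : s = ω
  · -- the eigenvalue `1` of the twist
    have hy : dv * mu = 1 := by
      have h1 : (dv * mu) ^ a = dv * mu := by
        rw [hs, hω] at hsω
        field_simp at hsω
        rw [mul_pow]
        linear_combination -hsω
      have h2 : (dv * mu) ^ (a - 1) = 1 := by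
        refine mul_right_cancel₀ (mul_ne_zero hdv0 hmu0) ?_
        rw [one_mul, ← pow_succ, Nat.sub_add_cancel (by omega), h1]
      have h3 : (dv * mu) ^ p ^ e = 1 := by rw [mul_pow, hdvpow, hmupow, one_mul]
      have hcop : (a - 1).Coprime (p ^ e) :=
        ((Nat.coprime_comm.1 ((Nat.Prime.coprime_iff_not_dvd hp.out).2 fun h => by
          have := Nat.le_of_dvd (by omega) h
          omega)).pow_right e)
      have h4 := pow_gcd_eq_one.2 ⟨h2, h3⟩
      rwa [hcop.gcd_eq_one, pow_one] at h4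
    obtain ⟨-, m₀, hm₀, hhalf⟩ := exact_facts hp5 hQ1 hQ1n ψ' hψf (by rw [hd']; omega) hwo
    let q : Subgroup.zpowers v →* Subgroup.zpowers w :=
      { toFun := fun h => ⟨f₁ (f₀ h), by
          obtain ⟨i, hi⟩ := h.2
          exact ⟨i, by rw [← hi, hw, map_zpow, map_zpow]⟩⟩
        map_one' := Subtype.ext (by simp)
        map_mul' := fun x y => Subtype.ext (by simp) }
    have hq : Function.Surjective q := fun h => by
      obtain ⟨i, hi⟩ := h.2
      exact ⟨⟨v ^ i, i, rfl⟩, Subtype.ext (by show f₁ (f₀ (v ^ i)) = _; rw [map_zpow, map_zpow]; exact hi)⟩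
    have hm1' : (m₀ : ℂ) = (c φ : ℂ) := by
      rw [← hm₀, ← hc φ, ← classInner_comp_surjective q hq]
      simp only [Cfsg.classInner]
      congr 1
      refine Finset.sum_congr rfl fun h _ => ?_
      obtain ⟨i, hi⟩ : ∃ i : ℕ, v ^ i = (h : G) := mem_powers_iff_mem_zpowers.2 h.2
      have hh : h = (⟨v, Subgroup.mem_zpowers v⟩ : Subgroup.zpowers v) ^ i := Subtype.ext (by simpa using hi.symm)
      show (ψ' : _ ⧸ K → ℂ) (f₁ (f₀ h)) * conj (1 : ℂ) = (φ : G → ℂ) h * conj ((μ : Subgroup.zpowers v → ℂ) h)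
      rw [show (ψ' : _ ⧸ K → ℂ) (f₁ (f₀ h)) = (ψ : _ → ℂ) (f₀ h) from (congrFun heψ (f₀ h)).symm, hψ,
        show (η : _ → ℂ) (f₀ h) = (φ : G → ℂ) h from (congrFun heη (h : G)).symm, map_one, mul_one, hl,
        ← hi, map_pow, map_pow, Units.val_pow_eq_pow_val, hh]
      simp only [map_pow, Units.val_pow_eq_pow_val, ← hmu, ← hdv]
      rw [mul_comm]
      congr 2
      refine mul_right_cancel₀ hmu0 ?_
      rw [hy, mul_comm, Complex.mul_conj', hmun]
      norm_num
    rw [hcφ, Nat.cast_inj] at hm1'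
    rw [hd', hm1'] at hhalf
    omega
  · set r := ω / s with hr
    have hr1 : r ≠ 1 := fun h => hsω (by rw [hr, div_eq_one_iff_eq hs0] at h; exact h.symm)
    have hrpow : r ^ p ^ e = 1 := by rw [hr, div_pow, hωpow, hspow, div_one]
    obtain ⟨i, -, hi⟩ := (Nat.dvd_prime_pow hp.out).1 (orderOf_dvd_of_pow_eq_one hrpow)
    have hi0 : i ≠ 0 := fun h => hr1 (orderOf_eq_one_iff.1 (by rw [hi, h, pow_zero]))
    by_cases h7 : 7 ≤ p ^ i
    · refine two z (p ^ i) 1 s ω h7 hzφ hzr (hi ▸ IsPrimitiveRoot.orderOf r) (by rw [pow_one]; exact hspow)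
        (by rw [pow_one]; exact hωpow) fun u hu h => ?_
      rw [pow_one, pow_one] at h
      have h1 : r ^ u = 1 := by rw [hr, div_pow, ← h, div_self (pow_ne_zero _ hs0)]
      have h2 := orderOf_dvd_of_pow_eq_one h1
      rw [hi] at h2
      have h3 := Nat.Coprime.eq_one_of_dvd (hu.symm) h2
      omega
    · have hp5' : p = 5 ∧ i = 1 := by
        have h1 : p ≤ p ^ i := Nat.le_self_pow hi0 p
        have h6 : p ≠ 6 := fun h => by rw [h] at hp; exact absurd hp.out (by norm_num)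
        have h2 : i < 2 := by
          by_contra h
          have := Nat.pow_le_pow_right (n := p) (by omega) (show 2 ≤ i by omega)
          have : 25 ≤ p ^ 2 := Nat.pow_le_pow_left hp5 2
          omega
        exact ⟨by omega, by omega⟩
      have hr5 : orderOf r = 5 := by rw [hi, hp5'.2, pow_one, hp5'.1]
      have hev : 2 ∣ Nat.card (commutator G) := by
        by_contra hodd
        refine false_of_odd_commutator hp5 hQ1 hQ1n ψ' hψf (by rw [hd']; omega) fun h => hodd ?_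
        have hmap : commutator (_ ⧸ K) = (commutator G).map (f₁.comp f₀) := by
          rw [commutator_def, commutator_def, Subgroup.map_commutator, Subgroup.map_top_of_surjective (f₁.comp f₀)
            ((QuotientGroup.mk'_surjective K).comp (QuotientGroup.mk'_surjective _))]
        rw [hmap] at h
        exact h.trans (Subgroup.card_map_dvd _ _)
      have hlin : ∀ φ', φ' ≠ φ → m φ' ≠ 0 → (φ' : G → ℂ) 1 = 1 := fun φ' hne h0 => by
        have h1 := Finset.single_le_sum (f := fun ψ => m ψ * charDegree (ψ : G → ℂ)) (fun _ _ => Nat.zero_le _)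
          (Finset.mem_erase.2 ⟨hne, Finset.mem_univ φ'⟩)
        have h2 := Nat.le_mul_of_pos_left (charDegree (φ' : G → ℂ)) (Nat.pos_of_ne_zero h0)
        have := DegreeTools.deg_pos φ'
        rw [irr_one_eq, show charDegree (φ' : G → ℂ) = 1 by omega, Nat.cast_one]
      obtain ⟨i', hi', hir⟩ := exists_neg hfaith hexp (by omega) hlin hev
      refine two (i' * z) 10 2 (-1 * s) (1 * ω) (by norm_num) (hi'.mul hzφ)
        (fun φ' h1 h2 => (hir φ' h1 h2).mul (hzr φ' h1 h2)) ?_ ?_ ?_ fun u hu h => ?_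
      · rw [show 1 * ω / (-1 * s) = -1 * r by rw [hr]; field_simp]
        refine IsPrimitiveRoot.iff_orderOf.2 ?_
        have h2 : orderOf (-1 : ℂ) = 2 := by rw [orderOf_neg_one, if_neg]; rw [ringChar.eq_zero]; norm_num
        rw [(Commute.all (-1 : ℂ) r).orderOf_mul_eq_mul_orderOf_of_coprime (by rw [h2, hr5]; norm_num), h2, hr5]
      · rw [← pow_mul, mul_comm 2, pow_mul, mul_pow, hspow]
        ring_nf
        rw [pow_mul', neg_one_sq, one_pow]
      · rw [one_mul, ← pow_mul, mul_comm 2, pow_mul, hωpow, one_pow]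
      · rw [one_mul, ← pow_mul, ← pow_mul, mul_pow, (show Even (u * 2) from ⟨u, by ring⟩).neg_one_pow, one_mul] at h
        have h1 : r ^ (u * 2) = 1 := by rw [hr, div_pow, ← h, div_self (pow_ne_zero _ hs0)]
        have h2 := orderOf_dvd_of_pow_eq_one h1
        rw [hr5] at h2
        have h3 : 5 ∣ u := (Nat.Coprime.dvd_of_dvd_mul_right (by norm_num) h2)
        have h4 : 5 ∣ Nat.gcd u 10 := Nat.dvd_gcd h3 (by norm_num)
        rw [hu.gcd_eq_one] at h4
        omega

end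

section
/-- Elements with a large eigenvalue multiplicity commute. -/
theorem commute_of_big (hp5 : 5 ≤ p) {χ : G → ℂ} (hχ : Cfsg.IsCharacter G χ)
    (hfaith : ∀ g : G, χ g = χ 1 → g = 1) (hn : charDegree χ + 2 ≤ p) (hTwo : NoTwo p χ)
    (hI : ∀ φ : IrrCharacter G, charDegree (φ : G → ℂ) + 2 ≤ p →
      haveI := charKer_normal (isCharacter_irr φ)
      HasIndex p (G ⧸ charKer (isCharacter_irr φ)))
    {v w : G} (hvp : IsPGroup p (Subgroup.zpowers v)) (hwp : IsPGroup p (Subgroup.zpowers w)) {t : ℕ}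
    (ht : 2 * t + 1 = p) (hv : Big χ v t) (hw : Big χ w t) : v * w = w * v := by
  obtain ⟨m, -, hexp⟩ := IsCharacter.exists_multiplicity hχ
  rw [← mul_inv_eq_one]
  refine eq_one_of_kers hfaith hexp fun φ h0 => ?_
  haveI := charKer_normal (isCharacter_irr φ)
  refine (mem_charKer _).1 ((QuotientGroup.eq_one_iff (N := charKer (isCharacter_irr φ)) _).1 ?_)
  set f := QuotientGroup.mk' (charKer (isCharacter_irr φ))
  show f (v * w * (w * v)⁻¹) = 1
  rw [map_mul, map_inv, mul_inv_eq_one, map_mul, map_mul]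
  obtain ⟨ψ, he, hf, hdeg⟩ := exists_image φ
  letI := Fintype.ofFinite (G ⧸ charKer (isCharacter_irr φ))
  have hdφ : charDegree (φ : G → ℂ) ≤ charDegree χ := by
    rw [← sum_deg hχ hexp]
    exact le_trans (Nat.le_mul_of_pos_left _ (Nat.pos_of_ne_zero h0))
      (Finset.single_le_sum (f := fun ψ => m ψ * charDegree (ψ : G → ℂ)) (fun _ _ => Nat.zero_le _) (Finset.mem_univ φ))
  obtain ⟨Q⟩ : Nonempty (Sylow p (G ⧸ charKer (isCharacter_irr φ))) := inferInstance
  have hpv : IsPGroup p (Subgroup.zpowers (f v)) := by rw [← MonoidHom.map_zpowers]; exact hvp.map f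
  have hpw : IsPGroup p (Subgroup.zpowers (f w)) := by rw [← MonoidHom.map_zpowers]; exact hwp.map f
  by_cases hQ : (Q : Subgroup (G ⧸ charKer (isCharacter_irr φ))).Normal
  · have hmem : ∀ a, IsPGroup p (Subgroup.zpowers a) → a ∈ (Q : Subgroup (G ⧸ charKer (isCharacter_irr φ))) :=
      fun a ha => (Q.3 (IsPGroup.to_sup_of_normal_left Q.2 ha) le_sup_left).le.trans' le_sup_right
        (Subgroup.mem_zpowers a)
    exact CharDeep.SmallFaithful.pGroup_comm (isCharacter_irr ψ) hf (by omega) Q.2 _ (hmem _ hpv) _ (hmem _ hpw)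
  have hbig : p ≤ 2 * charDegree (φ : G → ℂ) + 1 := by
    by_contra h
    exact hQ (normal_of_small (isCharacter_irr ψ) hf (by rw [hdeg]; omega) Q)
  obtain ⟨hm1, -⟩ := big_unique hχ hexp hn h0 hbig
  have hrest : 2 + ∑ φ' ∈ Finset.univ.erase φ, m φ' * charDegree (φ' : G → ℂ) ≤ t ∨
      charDegree (φ : G → ℂ) = t ∧ ∑ φ' ∈ Finset.univ.erase φ, m φ' * charDegree (φ' : G → ℂ) = t - 1 := by
    have h := sum_deg hχ hexp
    rw [← Finset.add_sum_erase _ _ (Finset.mem_univ φ), hm1, one_mul] at h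
    omega
  have hcomm : ∀ a : G, IsPGroup p (Subgroup.zpowers a) → IsPGroup p (Subgroup.zpowers (f a)) → Big χ a t →
      f a ∈ Subgroup.center (G ⧸ charKer (isCharacter_irr φ)) := by
    intro a hap' hap ha
    by_contra hnc
    have hfree := free_of_index hp5 ψ hf (by omega) Q hQ (hI φ (by omega)) hap hnc
    let g : Subgroup.zpowers a →* Subgroup.zpowers (f a) :=
      { toFun := fun h => ⟨f h, by
          obtain ⟨i, hi⟩ := h.2
          exact ⟨i, by rw [← hi]; exact (map_zpow f a i).symm⟩⟩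
        map_one' := Subtype.ext (map_one f)
        map_mul' := fun a b => Subtype.ext (map_mul f _ _) }
    have hg : Function.Surjective g := fun h => by
      obtain ⟨i, hi⟩ := h.2
      exact ⟨⟨a ^ i, i, rfl⟩, Subtype.ext (by rw [← hi]; exact map_zpow f a i)⟩
    have hfreeφ : Free (φ : G → ℂ) a := by
      unfold Free at hfree ⊢
      rw [irr_one_eq, ← hdeg, ← irr_one_eq, ← hfree, ← classInner_comp_surjective g hg]
      congr 1 <;> exact funext fun h => congrFun he h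
    rcases hrest with hr | ⟨hφt, hr⟩
    · exact not_big_two (isCharacter_irr φ) hfreeφ (big_constituent hexp hm1 ha hr)
    · refine false_of_edge hχ hfaith hexp hp5 hTwo hm1 ht hφt hr (hI φ (by omega)) (fun R hR => hQ ?_) hap' ha hfreeφ hnc
      haveI : Unique (Sylow p (G ⧸ charKer (isCharacter_irr φ))) := Sylow.unique_of_normal R hR
      rw [Subsingleton.elim Q R]
      exact hR
  exact (Subgroup.mem_center_iff.1 (hcomm v hvp hpv hv) (f w)).symm

end

end CfsgLib.Char.FeitDegree.Index
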