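import Cfsg.Agent.Lib.Char.Constituent
import Cfsg.Agent.Lib.Char.Quotient
import Cfsg.Agent.Lib.DegreeTools.Basic

/-!
# Multiplicities of eigenvalues of an element through a character
-/

set_option autoImplicit false

open scoped ComplexConjugate Classical

namespace CfsgLib.Char.FeitDegree.Index

open Cfsg CfsgLib

universe u

variable {G : Type u} [Group G] [Fintype G]

/-- An eigenvalue of `g` of multiplicity at least `t`. -/
def Big (χ : G → ℂ) (g : G) (t : ℕ) : Prop :=
  ∃ φ : IrrCharacter (Subgroup.zpowers g), ∃ k : ℕ, t ≤ k ∧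
    classInner (fun h : Subgroup.zpowers g => χ h) (φ : Subgroup.zpowers g → ℂ) = k

/-- All eigenvalues of `g` are simple. -/
def Free (χ : G → ℂ) (g : G) : Prop :=
  classInner (fun h : Subgroup.zpowers g => χ h) (fun h : Subgroup.zpowers g => χ h) = χ 1

omit [Fintype G] in
theorem zpowers_comm (g : G) (a b : Subgroup.zpowers g) : a * b = b * a :=
  Subtype.ext (by obtain ⟨i, hi⟩ := a.2; obtain ⟨j, hj⟩ := b.2; simp [← hi, ← hj, ← zpow_add, add_comm])

theorem irr_zpowers_one {g : G} (φ : IrrCharacter (Subgroup.zpowers g)) :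
    (φ : Subgroup.zpowers g → ℂ) 1 = 1 :=
  apply_one_eq_one_of_comm (zpowers_comm g) φ.2

/-- The multiplicities add up to the degree and their squares to the norm. -/
theorem exists_mults {χ : G → ℂ} (hχ : Cfsg.IsCharacter G χ) (g : G) :
    ∃ m : IrrCharacter (Subgroup.zpowers g) → ℕ,
      (∀ φ : IrrCharacter (Subgroup.zpowers g),
        classInner (fun h : Subgroup.zpowers g => χ h) (φ : Subgroup.zpowers g → ℂ) = m φ) ∧
      ∑ φ, m φ = charDegree χ ∧
      classInner (fun h : Subgroup.zpowers g => χ h) (fun h : Subgroup.zpowers g => χ h)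
        = ((∑ φ, m φ * m φ : ℕ) : ℂ) := by
  have hr := IsCharacter.restrict hχ (Subgroup.zpowers g)
  obtain ⟨m, hm, hexp⟩ := IsCharacter.exists_multiplicity hr
  refine ⟨m, hm, ?_, ?_⟩
  · apply Nat.cast_injective (R := ℂ)
    rw [DegreeTools.charDegree_cast hχ, Nat.cast_sum]
    have h := hexp 1
    rw [OneMemClass.coe_one] at h
    rw [h]
    exact Finset.sum_congr rfl fun φ _ => by rw [irr_zpowers_one, mul_one]
  · rw [classInner_eq_sum_irr (IsCharacter.isClassFunction hr), Nat.cast_sum]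
    exact Finset.sum_congr rfl fun φ _ => by
      rw [hm, IsCharacter.classInner_comm (isCharacter_irr φ) hr, hm, Nat.cast_mul]

theorem le_charDegree {χ : G → ℂ} (hχ : Cfsg.IsCharacter G χ) {g : G} {t : ℕ} (hb : Big χ g t) :
    t ≤ charDegree χ := by
  obtain ⟨φ, k, hk, he⟩ := hb
  obtain ⟨m, hm, hs, -⟩ := exists_mults hχ g
  obtain rfl : k = m φ := Nat.cast_injective (R := ℂ) (he.symm.trans (hm φ))
  exact hk.trans (hs ▸ Finset.single_le_sum (fun i _ => Nat.zero_le _) (Finset.mem_univ φ))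

theorem not_big_two {χ : G → ℂ} (hχ : Cfsg.IsCharacter G χ) {g : G} (hf : Free χ g) : ¬ Big χ g 2 := by
  rintro ⟨φ, k, hk, he⟩
  obtain ⟨m, hm, hs, hn⟩ := exists_mults hχ g
  obtain rfl : k = m φ := Nat.cast_injective (R := ℂ) (he.symm.trans (hm φ))
  rw [Free, hn, ← DegreeTools.charDegree_cast hχ, ← hs, Nat.cast_inj] at hf
  have hlt : ∑ ψ, m ψ < ∑ ψ, m ψ * m ψ := by
    refine Finset.sum_lt_sum (fun ψ _ => Nat.le_mul_self _) ⟨φ, Finset.mem_univ _, ?_⟩
    calc m φ = m φ * 1 := (mul_one _).symm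
      _ < m φ * m φ := Nat.mul_lt_mul_of_pos_left (by omega) (by omega)
  omega

/-- An element acting by a scalar has one eigenvalue. -/
theorem big_of_norm_eq {χ : G → ℂ} (hχ : Cfsg.IsCharacter G χ) {g : G}
    (hn : ∀ h ∈ Subgroup.zpowers g, ‖χ h‖ = charDegree χ) : Big χ g (charDegree χ) := by
  obtain ⟨m, hm, hs, hsq⟩ := exists_mults hχ g
  have hd : ∑ φ, m φ * m φ = charDegree χ * charDegree χ := by
    apply Nat.cast_injective (R := ℂ)
    rw [← hsq, Cfsg.classInner, Finset.sum_congr rfl fun h _ => by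
      rw [Complex.mul_conj', hn h h.2], Finset.sum_const, Finset.card_univ, nsmul_eq_mul,
      ← Nat.card_eq_fintype_card, ← mul_assoc, inv_mul_cancel₀ card_ne_zero, one_mul]
    push_cast
    ring
  by_contra hb
  have hlt : ∀ φ, m φ < charDegree χ := fun φ => by
    by_contra hc
    exact hb ⟨φ, m φ, not_lt.1 hc, hm φ⟩
  rcases Nat.eq_zero_or_pos (charDegree χ) with h0 | h0
  · obtain ⟨φ⟩ : Nonempty (IrrCharacter (Subgroup.zpowers g)) := ⟨DegreeTools.oneChar _⟩
    have := hlt φ
    omega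
  have : ∑ φ, m φ * m φ < ∑ φ, m φ * charDegree χ := by
    obtain ⟨φ, -, hφ⟩ : ∃ φ ∈ Finset.univ, m φ ≠ 0 := Finset.exists_ne_zero_of_sum_ne_zero (by omega)
    exact Finset.sum_lt_sum (fun ψ _ => Nat.mul_le_mul_left _ (hlt ψ).le)
      ⟨φ, Finset.mem_univ _, Nat.mul_lt_mul_of_pos_left (hlt φ) (Nat.pos_of_ne_zero hφ)⟩
  rw [← Finset.sum_mul, hs, hd] at this
  omega

/-- A constituent inherits all but the degrees of the others. -/
theorem big_constituent {χ : G → ℂ} {m : IrrCharacter G → ℕ}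
    (hexp : ∀ g, χ g = ∑ φ, (m φ : ℂ) * (φ : G → ℂ) g) {θ : IrrCharacter G} (hθ : m θ = 1) {g : G} {t s : ℕ}
    (hb : Big χ g t) (hts : s + ∑ φ ∈ Finset.univ.erase θ, m φ * charDegree (φ : G → ℂ) ≤ t) :
    Big (θ : G → ℂ) g s := by
  obtain ⟨μ, k, hk, he⟩ := hb
  choose c hc using fun φ : IrrCharacter G => IsCharacter.classInner_nat
    (IsCharacter.restrict (isCharacter_irr φ) (Subgroup.zpowers g)) (isCharacter_irr μ)
  have hle : ∀ φ, c φ ≤ charDegree (φ : G → ℂ) := fun φ =>
    le_charDegree (isCharacter_irr φ) ⟨μ, c φ, le_rfl, hc φ⟩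
  have hkc : k = ∑ φ, m φ * c φ := by
    apply Nat.cast_injective (R := ℂ)
    rw [← he, show (fun h : Subgroup.zpowers g => χ h) = ∑ φ, (m φ : ℂ) • fun h : Subgroup.zpowers g => (φ : G → ℂ) h
      from funext fun h => by rw [hexp]; simp [Finset.sum_apply], classInner_sum_left, Nat.cast_sum]
    exact Finset.sum_congr rfl fun φ _ => by rw [classInner_smul_left, hc, Nat.cast_mul]
  refine ⟨μ, c θ, ?_, hc θ⟩
  rw [← Finset.add_sum_erase _ _ (Finset.mem_univ θ), hθ, one_mul] at hkc
  have : ∑ φ ∈ Finset.univ.erase θ, m φ * c φ ≤ ∑ φ ∈ Finset.univ.erase θ, m φ * charDegree (φ : G → ℂ) :=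
    Finset.sum_le_sum fun φ _ => Nat.mul_le_mul_left _ (hle φ)
  omega

/-- The multiplicity of an eigenvalue of a constituent counts in the whole. -/
theorem big_of_constituent {χ : G → ℂ} {m : IrrCharacter G → ℕ}
    (hexp : ∀ g, χ g = ∑ φ, (m φ : ℂ) * (φ : G → ℂ) g) {θ : IrrCharacter G} (hθ : m θ ≠ 0) {g : G} {t : ℕ}
    (hb : Big (θ : G → ℂ) g t) : Big χ g t := by
  obtain ⟨μ, k, hk, he⟩ := hb
  choose c hc using fun φ : IrrCharacter G => IsCharacter.classInner_nat
    (IsCharacter.restrict (isCharacter_irr φ) (Subgroup.zpowers g)) (isCharacter_irr μ)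
  refine ⟨μ, ∑ φ, m φ * c φ, ?_, ?_⟩
  · have h1 : m θ * c θ ≤ ∑ φ, m φ * c φ :=
      Finset.single_le_sum (f := fun φ => m φ * c φ) (fun i _ => Nat.zero_le _) (Finset.mem_univ θ)
    have h2 : c θ = k := Nat.cast_injective (R := ℂ) ((hc θ).symm.trans he)
    have h3 : c θ ≤ m θ * c θ := Nat.le_mul_of_pos_left _ (Nat.pos_of_ne_zero hθ)
    omega
  · rw [show (fun h : Subgroup.zpowers g => χ h) = ∑ φ, (m φ : ℂ) • fun h : Subgroup.zpowers g => (φ : G → ℂ) h
      from funext fun h => by rw [hexp]; simp [Finset.sum_apply], classInner_sum_left, Nat.cast_sum]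
    exact Finset.sum_congr rfl fun φ _ => by rw [classInner_smul_left, hc, Nat.cast_mul]

/-- Conjugate elements have the same multiplicities. -/
theorem big_conj {χ : G → ℂ} (hχ : Cfsg.IsCharacter G χ) {g : G} {t : ℕ} (hb : Big χ g t) (c : G) :
    Big χ (c * g * c⁻¹) t := by
  obtain ⟨φ, k, hk, he⟩ := hb
  let f : Subgroup.zpowers (c * g * c⁻¹) →* Subgroup.zpowers g :=
    { toFun := fun h => ⟨c⁻¹ * h * c, by
        obtain ⟨i, hi⟩ := h.2
        refine ⟨i, ?_⟩
        show g ^ i = c⁻¹ * (h : G) * c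
        rw [← hi]
        show g ^ i = c⁻¹ * (c * g * c⁻¹) ^ i * c
        rw [conj_zpow]
        group⟩
      map_one' := Subtype.ext (by simp)
      map_mul' := fun a b => Subtype.ext (by simp [mul_assoc]) }
  have hs : Function.Surjective f := fun h => by
    obtain ⟨i, hi⟩ := h.2
    refine ⟨⟨(c * g * c⁻¹) ^ i, i, rfl⟩, Subtype.ext ?_⟩
    show c⁻¹ * (c * g * c⁻¹) ^ i * c = (h : G)
    rw [← hi, conj_zpow]
    group
  refine ⟨⟨_, IsIrrCharacter.comp_surjective φ.2 f hs⟩, k, hk, ?_⟩
  rw [← he, ← classInner_comp_surjective f hs]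
  congr 1
  funext h
  show χ h = χ (c⁻¹ * (h : G) * c)
  have := IsCharacter.isClassFunction hχ (h : G) c⁻¹
  rw [inv_inv] at this
  exact this.symm

/-- A shared eigenvector makes a generated group act by scalars. -/
theorem charDegree_eq_one_of_big (χ : IrrCharacter G) {g g' : G} {t t' : ℕ}
    (hb : Big (χ : G → ℂ) g t) (hb' : Big (χ : G → ℂ) g' t') (ht : charDegree (χ : G → ℂ) < t + t')
    (hgen : Subgroup.zpowers g ⊔ Subgroup.zpowers g' = ⊤) : charDegree (χ : G → ℂ) = 1 := by
  obtain ⟨n, ρ, hirr, hρ⟩ := χ.2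
  have hn : charDegree (χ : G → ℂ) = n := by
    rw [← hρ, charDegree, Representation.char_one, Module.finrank_fin_fun, Complex.natCast_re, Nat.floor_natCast]
  have hspace : ∀ (g : G) (t : ℕ), Big (χ : G → ℂ) g t →
      ∃ a : ℂ, t ≤ Module.finrank ℂ (Module.End.eigenspace (ρ g) a) := by
    rintro g t ⟨φ, k, hk, he⟩
    obtain ⟨b, μ, hμ1, hμ2⟩ := exists_eigenbasis ρ g
    obtain ⟨l, hl⟩ := exists_hom_of_apply_one_eq_one (isCharacter_irr φ) (irr_zpowers_one φ)
    set a : ℂ := (l ⟨g, Subgroup.mem_zpowers g⟩ : ℂ) with ha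
    set S := Finset.univ.filter fun i => μ i = a with hS
    refine ⟨a, ?_⟩
    have hcard : k = S.card := by
      apply Nat.cast_injective (R := ℂ)
      rw [← he, Cfsg.classInner, ← Fintype.sum_equiv (finEquivZPowers (isOfFinOrder_of_finite g))
        (fun j : Fin (orderOf g) => ∑ i, (μ i * conj a) ^ (j : ℕ)) _ fun j => ?_]
      · rw [Fin.sum_univ_eq_sum_range (fun j => ∑ i, (μ i * conj a) ^ j), Finset.sum_comm, Finset.mul_sum]
        have hord : (orderOf g : ℂ) ≠ 0 := Nat.cast_ne_zero.2 (orderOf_pos g).ne'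
        have haa : a ^ orderOf g = 1 := by
          rw [ha, ← Units.val_pow_eq_pow_val, ← map_pow, show (⟨g, Subgroup.mem_zpowers g⟩ :
            Subgroup.zpowers g) ^ orderOf g = 1 from Subtype.ext (pow_orderOf_eq_one g), map_one, Units.val_one]
        have hconj : a * conj a = 1 := by
          rw [Complex.mul_conj', norm_eq_one_of_pow_orderOf haa]; norm_num
        rw [Nat.card_zpowers, Finset.card_filter, Nat.cast_sum]
        refine Finset.sum_congr rfl fun i _ => ?_
        split_ifs with h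
        · rw [h, Finset.sum_congr rfl fun j _ => by rw [hconj, one_pow], Finset.sum_const, Finset.card_range,
            nsmul_eq_mul, mul_one, inv_mul_cancel₀ hord, Nat.cast_one]
        · have hne : μ i * conj a ≠ 1 := fun e => h (by
            calc μ i = μ i * (a * conj a) := by rw [hconj, mul_one]
              _ = a * (μ i * conj a) := by ring
              _ = a := by rw [e, mul_one])
          rw [geom_sum_eq hne, mul_pow, hμ1, one_mul, ← map_pow, haa, map_one, sub_self, zero_div, mul_zero,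
            Nat.cast_zero]
      · show _ = (χ : G → ℂ) (g ^ (j : ℕ)) * conj ((φ : Subgroup.zpowers g → ℂ) _)
        simp only [hl]
        rw [show (finEquivZPowers (isOfFinOrder_of_finite g)) j
          = (⟨g, Subgroup.mem_zpowers g⟩ : Subgroup.zpowers g) ^ (j : ℕ) from Subtype.ext rfl, map_pow,
          Units.val_pow_eq_pow_val, map_pow, ← ha, ← hρ,
          show ρ.character (g ^ (j : ℕ)) = ∑ i, μ i ^ (j : ℕ) from trace_eq_sum_of_eigen _ b _ (hμ2 j),
          Finset.sum_mul]
        exact Finset.sum_congr rfl fun i _ => mul_pow _ _ _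
    have hli : LinearIndependent ℂ (fun i : S => (⟨b i, Module.End.mem_eigenspace_iff.2 (by
        have h := hμ2 1 i
        rw [pow_one, pow_one] at h
        rw [h, (Finset.mem_filter.1 i.2).2])⟩ : Module.End.eigenspace (ρ g) a)) :=
      LinearIndependent.of_comp (Submodule.subtype _) (b.linearIndependent.comp _ Subtype.val_injective)
    have h := hli.fintype_card_le_finrank
    rw [Fintype.card_coe, ← hcard] at h
    exact hk.trans h
  obtain ⟨a, ha⟩ := hspace g t hb
  obtain ⟨a', ha'⟩ := hspace g' t' hb'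
  have hne : Module.End.eigenspace (ρ g) a ⊓ Module.End.eigenspace (ρ g') a' ≠ ⊥ := by
    intro h0
    have h := Submodule.finrank_sup_add_finrank_inf_eq (Module.End.eigenspace (ρ g) a)
      (Module.End.eigenspace (ρ g') a')
    rw [h0, finrank_bot, add_zero] at h
    have h1 := Submodule.finrank_le (Module.End.eigenspace (ρ g) a ⊔ Module.End.eigenspace (ρ g') a')
    rw [Module.finrank_fin_fun] at h1
    omega
  obtain ⟨v, hv, hv0⟩ := (Submodule.ne_bot_iff _).1 hne
  have hinv : ∀ x : G, ρ x v ∈ Submodule.span ℂ {v} := by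
    intro x
    let H : Subgroup G :=
      { carrier := {x | ∃ c : ℂˣ, ρ x v = (c : ℂ) • v}
        one_mem' := ⟨1, by simp⟩
        mul_mem' := fun {x y} ⟨c, hc⟩ ⟨c', hc'⟩ => ⟨c * c', by
          rw [map_mul, Module.End.mul_apply, hc', map_smul, hc, smul_smul, Units.val_mul, mul_comm]⟩
        inv_mem' := fun {x} ⟨c, hc⟩ => ⟨c⁻¹, by
          have h : ρ x⁻¹ (ρ x v) = v := by
            rw [← Module.End.mul_apply, ← map_mul, inv_mul_cancel, map_one, Module.End.one_apply]
          rw [hc, map_smul] at h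
          conv_rhs => rw [← h]
          rw [smul_smul, ← Units.val_mul, inv_mul_cancel, Units.val_one, one_smul]⟩ }
    have hmem : ∀ (y : G) (c : ℂ), ρ y v = c • v → y ∈ H := fun y c hc => by
      refine ⟨Units.mk0 c fun h0 => hv0 ?_, hc⟩
      have h : ρ y⁻¹ (ρ y v) = v := by
        rw [← Module.End.mul_apply, ← map_mul, inv_mul_cancel, map_one, Module.End.one_apply]
      rw [hc, h0, zero_smul, map_zero] at h
      exact h.symm
    have htop : H = ⊤ := by
      rw [eq_top_iff, ← hgen]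
      exact sup_le (Subgroup.zpowers_le.2 (hmem g a (Module.End.mem_eigenspace_iff.1 hv.1)))
        (Subgroup.zpowers_le.2 (hmem g' a' (Module.End.mem_eigenspace_iff.1 hv.2)))
    obtain ⟨c, hc⟩ : x ∈ H := htop ▸ Subgroup.mem_top x
    exact Submodule.mem_span_singleton.2 ⟨c, hc.symm⟩
  let W : Subrepresentation ρ :=
    { toSubmodule := Submodule.span ℂ {v}
      apply_mem_toSubmodule := fun x w hw => by
        obtain ⟨c, rfl⟩ := Submodule.mem_span_singleton.1 hw
        rw [map_smul]
        exact Submodule.smul_mem _ c (hinv x) }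
  rcases hirr.eq_bot_or_eq_top W with h | h
  · exact absurd (show Submodule.span ℂ {v} = ⊥ from (congrArg Subrepresentation.toSubmodule h).trans rfl)
      (by simp [hv0])
  · have h1 : Submodule.span ℂ {v} = ⊤ := congrArg Subrepresentation.toSubmodule h
    have h2 := congrArg (fun S : Submodule ℂ (Fin n → ℂ) => Module.finrank ℂ S) h1
    simp only [finrank_span_singleton hv0, finrank_top, Module.finrank_fin_fun] at h2
    rw [hn, ← h2]

end CfsgLib.Char.FeitDegree.Index
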