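import Cfsg.Agent.Lib.Char.FeitDegree.Index.Eigen
import Cfsg.Agent.Lib.Char.FeitDegree.Main
import Cfsg.Agent.Lib.CharDeep.SmallFaithful.Main

/-!
# Degrees at most `p - 3` when a Sylow subgroup has prime order
-/

set_option autoImplicit false

open scoped Classical ComplexConjugate

namespace CfsgLib.Char.FeitDegree.Index

open Cfsg CfsgLib CfsgLib.Blocks CfsgLib.Blocks.DefectOne CfsgLib.CharDeep.ExactP
open Setup

universe u

variable {G : Type u} [Group G] [Fintype G] {p : ℕ} [hp : Fact p.Prime]

/-- Few dimensions give a normal Sylow subgroup. -/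
theorem normal_of_small {χ : G → ℂ} (hχ : Cfsg.IsCharacter G χ) (hfaith : ∀ g : G, χ g = χ 1 → g = 1)
    (hd : 2 * charDegree χ + 1 < p) (P : Sylow p G) : (P : Subgroup G).Normal := by
  refine CharDeep.SmallFaithful.sylow_normal_aux (Nat.card G) G rfl χ hχ hfaith
    (Or.inr ⟨by omega, fun K hK Q => ?_⟩) P
  letI := Fintype.ofFinite K
  exact CharDeep.ExactP.sylow_normal_aux (Nat.card K) K rfl hK _ (IsCharacter.restrict hχ K)
    (fun g e => CharDeep.SmallFaithful.faithful_restrict hfaith K g e) hd Q

/-- A `p'`-kernel over a normal Sylow image. -/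
theorem normal_of_kernel {χ : G → ℂ} (hχ : Cfsg.IsCharacter G χ) (hfaith : ∀ g : G, χ g = χ 1 → g = 1)
    (hd : charDegree χ + 2 ≤ p) (P : Sylow p G) (N : Subgroup G) [N.Normal] (hN : ¬ p ∣ Nat.card N)
    (hPN : (N ⊔ (P : Subgroup G)).Normal) : (P : Subgroup G).Normal := by
  set H := N ⊔ (P : Subgroup G) with hH
  have hPH : (P : Subgroup G) ≤ H := le_sup_right
  have hNH : N ≤ H := le_sup_left
  haveI : (N.subgroupOf H).Normal := Subgroup.Normal.subgroupOf inferInstance H
  have hinf : N ⊓ (P : Subgroup G) = ⊥ := Subgroup.inf_eq_bot_of_coprime (by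
    obtain ⟨k, hk⟩ := IsPGroup.iff_card.1 P.2
    rw [hk]
    exact (((Nat.Prime.coprime_iff_not_dvd hp.out).2 hN).symm).pow_right k)
  have hsolv : Cfsg.IsPSolvable p H := by
    refine ⟨2, ![⊥, N.subgroupOf H, ⊤], rfl, rfl, ?_, ?_, ?_⟩
    · refine Fin.monotone_iff_le_succ.2 fun i => ?_
      fin_cases i
      · exact bot_le
      · exact le_top
    · intro i
      fin_cases i
      · exact Subgroup.normal_bot
      · exact ‹(N.subgroupOf H).Normal›
      · exact inferInstanceAs (⊤ : Subgroup H).Normal
    · intro i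
      fin_cases i
      · right
        show ((⊥ : Subgroup H).relIndex (N.subgroupOf H)).Coprime p
        rw [Subgroup.relIndex_bot_left, Nat.card_congr (Subgroup.subgroupOfEquivOfLe hNH).toEquiv]
        exact (Nat.Prime.coprime_iff_not_dvd hp.out).2 hN |>.symm
      · left
        obtain ⟨k, hk⟩ := IsPGroup.iff_card.1 P.2
        refine ⟨k, ?_⟩
        show (N.subgroupOf H).relIndex ⊤ = p ^ k
        rw [Subgroup.relIndex_top_right, ← Subgroup.relIndex, Subgroup.relIndex_sup_left,
          ← Subgroup.inf_relIndex_right, hinf, Subgroup.relIndex_bot_left, hk]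
  have hn : ((P.subtype hPH : Sylow p H) : Subgroup H).Normal := by
    by_contra hnn
    have h := Cfsg.Agent.S4468.result (fun h : H => χ h) (IsCharacter.restrict hχ H)
      (fun g e => CharDeep.SmallFaithful.faithful_restrict hfaith H g e) (charDegree χ) rfl p hp.out hsolv (by omega)
      (P.subtype hPH) hnn
    omega
  haveI := hPN
  haveI := Sylow.characteristic_of_normal _ hn
  have h := ConjAct.normal_of_characteristic_of_normal (K := ((P.subtype hPH : Sylow p H) : Subgroup H))
  rwa [Sylow.coe_subtype, Subgroup.subgroupOf_map_subtype, inf_eq_left.2 hPH] at h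

variable {P : Sylow p G}

/-- An element of order `p` generates a conjugate of the Sylow subgroup. -/
theorem exists_conj_sylow (hP : Nat.card P = p) {v : G} (hv : orderOf v = p) :
    ∃ g : G, (P : Subgroup G) = (Subgroup.zpowers v).map (MulAut.conj g).toMonoidHom := by
  have hz : IsPGroup p (Subgroup.zpowers v) := IsPGroup.of_card (n := 1) (by rw [Nat.card_zpowers, hv, pow_one])
  obtain ⟨S, hS⟩ := hz.exists_le_sylow
  obtain ⟨g, hg⟩ := MulAction.exists_smul_eq G S P
  refine ⟨g, (Subgroup.eq_of_le_of_card_ge ?_ ?_).symm⟩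
  · rw [← hg, Sylow.coe_subgroup_smul]
    exact Subgroup.map_mono hS
  · rw [Subgroup.card_map_of_injective (f := (MulAut.conj g).toMonoidHom) (MulAut.conj g).injective, Nat.card_zpowers, hv]
    exact hP.le

end CfsgLib.Char.FeitDegree.Index
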