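import Cfsg.Agent.Lib.Char.SmallLinear.TwoEigen
import Cfsg.Agent.Lib.Char.SmallLinear.Restrict

/-!
# Degrees at most `p - 2` when a Sylow subgroup has prime order `p ≥ 5`
-/

set_option autoImplicit false

open scoped Classical ComplexConjugate

namespace CfsgLib.Char.FeitDegree.Index

open Cfsg CfsgLib CfsgLib.Blocks CfsgLib.Blocks.DefectOne CfsgLib.CharDeep.ExactP
open Setup

universe u

variable {G : Type u} [Group G] [Fintype G] {p : ℕ} [hp : Fact p.Prime] {P : Sylow p G}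

/-- Normal `p`-subgroups are trivial. -/
theorem core_center_of_card (hP : Nat.card P = p) (hnn : ¬ (P : Subgroup G).Normal) (M : Subgroup G) (hM : M.Normal)
    (hMp : IsPGroup p M) : M ≤ Subgroup.center G := by
  haveI := hM
  have hle := le_sylow P hMp
  rcases (Nat.dvd_prime hp.out).1 (hP ▸ Subgroup.card_dvd_of_le hle) with h | h
  · rw [Subgroup.eq_bot_of_card_eq _ h]; exact bot_le
  · refine absurd ?_ hnn
    rw [← Subgroup.eq_of_le_of_card_ge hle (by rw [h]; exact hP.le)]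
    exact hM

theorem few_small (hp5 : 5 ≤ p) (hp7 : p ≤ 7) (hnn : ¬ (P : Subgroup G).Normal) {D : Frame P}
    {ζ : IrrCharacter G} (hfaith : ∀ g : G, (ζ : G → ℂ) g = (ζ : G → ℂ) 1 → g = 1)
    (hd : charDegree (ζ : G → ℂ) + 2 ≤ p) (F : Few D ζ) : False := by
  have h3 := F.small
  set e := Nat.card D.act.range with he
  have he0 : 0 < e := Nat.card_pos
  by_cases he1 : e = 1
  · have hact : ∀ g : nrm P, D.act g = 1 := fun g => by
      have hbot : D.act.range = ⊥ := Subgroup.eq_bot_of_card_eq _ he1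
      exact Subgroup.mem_bot.1 (hbot ▸ ⟨g, rfl⟩ : D.act g ∈ (⊥ : Subgroup (ZMod p)ˣ))
    have hle : Subgroup.normalizer ((P : Subgroup G) : Set G) ≤ Subgroup.centralizer ((P : Subgroup G) : Set G) :=
      fun g hg => (D.act_eq_one_iff ⟨g, hg⟩).1 (hact _)
    set K := (MonoidHom.transferSylow P hle).ker with hK
    have hKc := MonoidHom.ker_transferSylow_isComplement' P hle
    have hxK : D.x ∉ K := fun h => by
      have h1 := Subgroup.disjoint_def.1 hKc.disjoint h D.x_mem
      have h2 := D.ord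
      rw [h1, orderOf_one] at h2
      omega
    have hKC := Kernel.le_cent (isCharacter_irr ζ) hfaith hd hxK
    have hPC : (P : Subgroup G) ≤ cent P := fun u hu => by
      rw [D.mem_cent_iff]
      rw [← D.zp] at hu
      obtain ⟨i, rfl⟩ := Subgroup.mem_zpowers_iff.1 hu
      exact (Commute.refl _).zpow_left i
    have htop : cent P = ⊤ := top_le_iff.1 (hKc.sup_eq_top ▸ sup_le hKC hPC)
    exact hnn ⟨fun u hu g => by
      have hg : g ∈ cent P := htop ▸ Subgroup.mem_top g
      rwa [← Subgroup.mem_centralizer_iff.1 hg u hu, mul_inv_cancel_right]⟩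
  have hp7' : p = 7 ∧ e = 2 := by
    rcases (show p = 5 ∨ p = 6 ∨ p = 7 by omega) with h | h | h
    · omega
    · exact absurd (h ▸ hp.out) (by norm_num)
    · exact ⟨h, by omega⟩
  obtain ⟨c, hc⟩ := F.supp
  have hrange : ∀ u ∈ D.act.range, u = 1 ∨ u = -1 := fun u hu => by
    have h1 : u ^ e = 1 := by
      have h := pow_card_eq_one' (x := (⟨u, hu⟩ : D.act.range))
      exact congrArg Subtype.val h
    rw [hp7'.2] at h1
    rcases sq_eq_one_iff.1 (show ((u : ZMod p)) ^ 2 = 1 by rw [← Units.val_pow_eq_pow_val, h1, Units.val_one]) with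
      h | h
    · exact Or.inl (Units.ext h)
    · exact Or.inr (Units.ext (by rw [h, Units.val_neg, Units.val_one]))
  set k₀ : ZMod p := (c : ZMod p)
  have hne : k₀ ≠ -k₀ := fun h => by
    haveI : Fact (2 < p) := ⟨by omega⟩
    exact Units.ne_zero c ((ZMod.neg_eq_self_iff k₀).1 h.symm |>.resolve_right (by
      intro h2
      have := congrArg (fun z => z % 2) h2
      simp only [Nat.mul_mod_right] at this
      omega))
  have hsupp : ∀ k, k ≠ k₀ → k ≠ -k₀ → nP D ζ k = 0 := fun k h1 h2 => hc k fun hk => by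
    obtain ⟨u, hu, rfl⟩ := (mem_cos D).1 hk
    rcases hrange u hu with rfl | rfl
    · exact h1 (by simp [k₀])
    · exact h2 (by simp [k₀])
  have hval : ∀ i : ℕ, (ζ : G → ℂ) (D.x ^ i) = (nP D ζ k₀ : ℂ) * (ZMod.stdAddChar k₀ : ℂ) ^ i
      + (nP D ζ (-k₀) : ℂ) * (ZMod.stdAddChar (-k₀) : ℂ) ^ i := by
    intro i
    have hpow : ∀ z : ZMod p, (ZMod.stdAddChar z : ℂ) ^ i = ZMod.stdAddChar (z * (i : ZMod p)) := fun z => by
      rw [← AddChar.map_nsmul_eq_pow, nsmul_eq_mul, mul_comm]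
    rw [← D.xpow_eq, apply_xpow, hpow, hpow, Finset.sum_eq_add k₀ (-k₀) hne]
    · intro k _ hk
      rw [hsupp k hk.1 hk.2, Nat.cast_zero, zero_mul]
    · exact fun h => absurd (Finset.mem_univ _) h
    · exact fun h => absurd (Finset.mem_univ _) h
  have hroot : ∀ z : ZMod p, (ZMod.stdAddChar z : ℂ) ^ p = 1 := fun z => by
    rw [← AddChar.map_nsmul_eq_pow, nsmul_eq_mul, ZMod.natCast_self, zero_mul, AddChar.map_zero_eq_one]
  have hxZ : D.x ∉ Subgroup.center G := fun h => by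
    have h1 : D.x ∈ (P : Subgroup G) ⊓ Subgroup.center G := ⟨D.x_mem, h⟩
    rw [inf_center D hnn, Subgroup.mem_bot] at h1
    have h2 := D.ord
    rw [h1, orderOf_one] at h2
    omega
  have hnorm : ∀ l, nP D ζ l = 0 → (l = k₀ ∨ l = -k₀) → False := by
    intro l hl hor
    refine hxZ (DegreeTools.mem_center_of_norm_eq ζ hfaith _ ?_)
    have h1 := hval 1
    have h0 := hval 0
    simp only [pow_zero, pow_one, mul_one] at h0 h1
    rcases hor with rfl | rfl
    · rw [hl, Nat.cast_zero, zero_add] at h0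
      rw [hl, Nat.cast_zero, zero_mul, zero_add] at h1
      rw [h1, norm_mul, Complex.norm_eq_one_of_pow_eq_one (hroot _) hp.out.ne_zero, mul_one, Complex.norm_natCast,
        Nat.cast_inj]
      exact Nat.cast_injective (R := ℂ) (h0.symm.trans (irr_one_eq ζ))
    · rw [hl, Nat.cast_zero, add_zero] at h0
      rw [hl, Nat.cast_zero, zero_mul, add_zero] at h1
      rw [h1, norm_mul, Complex.norm_eq_one_of_pow_eq_one (hroot _) hp.out.ne_zero, mul_one, Complex.norm_natCast,
        Nat.cast_inj]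
      exact Nat.cast_injective (R := ℂ) (h0.symm.trans (irr_one_eq ζ))
  have hpos : ∀ l, (l = k₀ ∨ l = -k₀) → 0 < nP D ζ l := fun l hor =>
    Nat.pos_of_ne_zero fun h => hnorm l h hor
  refine SmallLinear.TwoEigen.false_of_ratio ζ D.x (N := p) (by omega) (fun t ht => ?_)
    (a := (ZMod.stdAddChar k₀ : ℂ)) (b := (ZMod.stdAddChar (-k₀) : ℂ)) (by rw [D.ord]; exact hroot _)
    (by rw [D.ord]; exact hroot _) ?_ (hpos _ (Or.inl rfl)) (hpos _ (Or.inr rfl)) hval
  · refine SmallLinear.irr_normalClosure ζ hfaith hd (core_center_of_card D.card_P hnn) (i := 1) ?_ ?_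
    · rw [pow_one]; exact P.2.to_le (Subgroup.zpowers_le.2 (pow_mem D.x_mem t))
    · rw [pow_one]
      intro h
      obtain ⟨j, hj⟩ := exists_pow_eq_self_of_coprime (x := D.x) (n := t) (by rw [D.ord]; exact ht)
      exact hxZ (hj ▸ pow_mem h j)
  · rw [div_eq_mul_inv, ← AddChar.map_neg_eq_inv, ← AddChar.map_add_eq_mul]
    refine IsPrimitiveRoot.iff_orderOf.2 (orderOf_eq_prime (hroot _) fun h => hne ?_)
    have h2 := ZMod.injective_stdAddChar (h.trans (AddChar.map_zero_eq_one _).symm)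
    linear_combination -h2

/-- The multiplicities of `x`. -/
theorem pattern_cases (hp5 : 5 ≤ p) (hP : Nat.card P = p) (hnn : ¬ (P : Subgroup G).Normal) (ζ : IrrCharacter G)
    (hfaith : ∀ g : G, (ζ : G → ℂ) g = (ζ : G → ℂ) 1 → g = 1) (hd : charDegree (ζ : G → ℂ) + 2 ≤ p) :
    ∃ D : Frame P, (∀ k, nP D ζ k ≤ 1) ∧ p ≤ 2 * (charDegree (ζ : G → ℂ) - nP D ζ 0) + 1 := by
  obtain ⟨D⟩ := exists_frame P hP
  refine ⟨D, ?_⟩
  set d := charDegree (ζ : G → ℂ) with hddef
  rcases Setup.cases (D := D) hp5 hnn ζ hfaith hd with hhalf | hF | ⟨θ, c, M⟩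
  · obtain ⟨θ, B⟩ := DegHalf.exists_data D ζ ⟨by omega, hhalf, hfaith, hnn⟩
    obtain ⟨θ₀, k₀, hk₀, hpos⟩ := exists_mult_pos D B.half.moves
    set T := (Finset.univ : Finset D.act.range).image fun u : D.act.range => k₀ * ((u : (ZMod p)ˣ) : ZMod p) with hT
    have hcard : T.card = d := by
      rw [hT, Finset.card_image_of_injective _ fun a b e => Subtype.ext (Units.ext (mul_left_cancel₀ hk₀ e)),
        Finset.card_univ, ← Nat.card_eq_fintype_card, B.range]
    have h0T : (0 : ZMod p) ∉ T := fun h => by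
      obtain ⟨u, -, hu⟩ := Finset.mem_image.1 h
      exact mul_ne_zero hk₀ (Units.ne_zero _) hu
    have hle : ∀ l ∈ T, 1 ≤ nP D ζ l := by
      intro l hl
      obtain ⟨⟨u, g, rfl⟩, -, rfl⟩ := Finset.mem_image.1 hl
      refine le_trans ?_ (Finset.single_le_sum (f := fun t => fdeg D t * mult D t ζ (k₀ * (D.act g : ZMod p)))
        (fun _ _ => Nat.zero_le _) (Finset.mem_univ (D.tw θ₀ g)))
      rw [fdeg_tw, mult_tw, mul_assoc, Units.mul_inv, mul_one]
      exact Nat.one_le_iff_ne_zero.2 (Nat.mul_pos (fdeg_pos D θ₀) hpos).ne'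
    have hdeg := deg_eq D ζ
    rw [← hddef, ← Finset.sum_sdiff (Finset.subset_univ T)] at hdeg
    have h1 : T.card ≤ ∑ l ∈ T, nP D ζ l := by simpa using Finset.card_nsmul_le_sum T (fun l => nP D ζ l) 1 hle
    have hout : ∀ k ∉ T, nP D ζ k = 0 := fun k hk => by
      have := Finset.single_le_sum (f := fun l => nP D ζ l) (fun _ _ => Nat.zero_le _)
        (Finset.mem_sdiff.2 ⟨Finset.mem_univ k, hk⟩)
      omega
    refine ⟨fun k => ?_, by rw [hout 0 h0T]; omega⟩
    by_cases hk : k ∈ T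
    · by_contra hc
      have h2 : ∑ _l ∈ T, 1 < ∑ l ∈ T, nP D ζ l := Finset.sum_lt_sum hle ⟨k, hk, by omega⟩
      rw [Finset.sum_const, smul_eq_mul, mul_one] at h2
      omega
    · rw [hout k hk]; exact Nat.zero_le _
  · exact (if h7 : 7 < p then Main.few_false h7 hnn hfaith hd hF
      else few_small hp5 (by omega) hnn hfaith hd hF).elim
  refine ⟨fun k => by rw [Members.Minus_nP M]; split_ifs <;> omega, ?_⟩
  have h0 : nP D ζ 0 = 1 := by rw [Members.Minus_nP M, if_neg (zero_notMem_cos D c)]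
  rw [h0]
  have hde : d + Nat.card D.act.range = p := M.deg
  obtain ⟨t, ht⟩ : Nat.card D.act.range ∣ p - 1 := by
    have h := D.act.range.card_subgroup_dvd_card
    rwa [Nat.card_eq_fintype_card (α := (ZMod p)ˣ), ZMod.card_units] at h
  rcases Nat.lt_or_ge t 2 with h2 | h2
  · exfalso
    interval_cases t
    · omega
    · have hd1 : d = 1 := by omega
      refine hnn ⟨fun v hv g => ?_⟩
      rwa [DegHalf.comm_of_deg_one (isCharacter_irr ζ) hfaith
        (by rw [irr_one_eq, show charDegree (ζ : G → ℂ) = 1 from hd1, Nat.cast_one]) g v, mul_inv_cancel_right]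
  · have := Nat.mul_le_mul_left (Nat.card D.act.range) h2
    omega

/-- Elements of order `p` have simple eigenvalues, at least half of them nontrivial. -/
theorem exact_facts (hp5 : 5 ≤ p) (hP : Nat.card P = p) (hnn : ¬ (P : Subgroup G).Normal) (ζ : IrrCharacter G)
    (hfaith : ∀ g : G, (ζ : G → ℂ) g = (ζ : G → ℂ) 1 → g = 1) (hd : charDegree (ζ : G → ℂ) + 2 ≤ p) {v : G}
    (hv : orderOf v = p) :
    Free (ζ : G → ℂ) v ∧ ∃ m₀ : ℕ, classInner (fun h : Subgroup.zpowers v => (ζ : G → ℂ) h) (fun _ => 1) = m₀ ∧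
      p ≤ 2 * (charDegree (ζ : G → ℂ) - m₀) + 1 := by
  obtain ⟨D, h1, h2⟩ := pattern_cases hp5 hP hnn ζ hfaith hd
  obtain ⟨g, hg⟩ := exists_conj_sylow hP hv
  have key : ∀ F : G → ℂ, ∑ h : Subgroup.zpowers v, F (g * h * g⁻¹) = ∑ a : ZMod p, F (D.x ^ a.val) := by
    intro F
    have hmem : ∀ a : ZMod p, g⁻¹ * D.x ^ a.val * g ∈ Subgroup.zpowers v := fun a => by
      obtain ⟨h, hh, he⟩ : D.x ^ a.val ∈ (Subgroup.zpowers v).map (MulAut.conj g).toMonoidHom :=
        hg ▸ pow_mem D.x_mem _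
      rw [← he]
      simpa [mul_assoc] using hh
    refine (Fintype.sum_equiv (Equiv.ofBijective (fun a : ZMod p => (⟨_, hmem a⟩ : Subgroup.zpowers v)) ?_) _ _
      fun a => ?_).symm
    · refine (Fintype.bijective_iff_injective_and_card _).2 ⟨fun a b e => D.xpow_inj ?_, ?_⟩
      · simpa using congrArg Subtype.val e
      · rw [ZMod.card, ← Nat.card_eq_fintype_card, Nat.card_zpowers, hv]
    · show F (D.x ^ a.val) = F (g * (g⁻¹ * D.x ^ a.val * g) * g⁻¹)
      congr 1
      group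
  have hcf : ∀ h : G, (ζ : G → ℂ) (g * h * g⁻¹) = (ζ : G → ℂ) h := fun h => IsIrrCharacter.isClassFunction ζ.2 h g
  have hcard : (Nat.card (Subgroup.zpowers v) : ℂ) = (p : ℂ) := by rw [Nat.card_zpowers, hv]
  have hp0 : (p : ℂ) ≠ 0 := Nat.cast_ne_zero.2 hp.out.ne_zero
  refine ⟨?_, nP D ζ 0, ?_, h2⟩
  · rw [Free, Cfsg.classInner, hcard,
      Finset.sum_congr rfl (g := fun h : Subgroup.zpowers v =>
        (ζ : G → ℂ) (g * h * g⁻¹) * conj ((ζ : G → ℂ) (g * h * g⁻¹))) fun h _ => by rw [hcf],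
      key fun h => (ζ : G → ℂ) h * conj ((ζ : G → ℂ) h), sum_normSq_xpow, ← mul_assoc, inv_mul_cancel₀ hp0, one_mul,
      irr_one_eq, Nat.cast_inj, deg_eq D]
    exact Finset.sum_congr rfl fun k _ => by
      have := h1 k
      interval_cases (nP D ζ k) <;> rfl
  · rw [classInner_fun_one_right, hcard,
      Finset.sum_congr rfl (g := fun h : Subgroup.zpowers v => (ζ : G → ℂ) (g * h * g⁻¹)) fun h _ => by rw [hcf],
      key (ζ : G → ℂ), sum_xpow, ← mul_assoc, inv_mul_cancel₀ hp0, one_mul]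

end CfsgLib.Char.FeitDegree.Index
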