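import Cfsg.Agent.Lib.Char.FeitDegree.Index.Facts

/-!
# Feit's theorem: degree at most `p - 2` bounds the index of the core by `p`
-/

set_option autoImplicit false

open scoped Classical ComplexConjugate

namespace CfsgLib.Char.FeitDegree.Index

open Cfsg CfsgLib CfsgLib.Blocks CfsgLib.Blocks.DefectOne

universe u

variable {G : Type u} [Group G] [Fintype G] {p : ℕ} [hp : Fact p.Prime]

theorem orderOf_pElt {v : G} (hv : IsPGroup p (Subgroup.zpowers v)) (P : Sylow p G) :
    orderOf v ∣ Nat.card (P : Subgroup G) := by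
  obtain ⟨S, hS⟩ := hv.exists_le_sylow
  rw [← Nat.card_zpowers, P.card_eq_multiplicity, ← S.card_eq_multiplicity]
  exact Subgroup.card_dvd_of_le hS

omit [Fintype G] hp in
theorem big_restrict {χ : G → ℂ} {H : Subgroup G} [Fintype G] {g : H} {t : ℕ} :
    Big χ (g : G) t ↔ Big (fun h : H => χ h) g t := by
  let f : Subgroup.zpowers g →* Subgroup.zpowers (g : G) :=
    { toFun := fun h => ⟨((h : H) : G), by
        obtain ⟨i, hi⟩ := h.2
        exact ⟨i, by rw [← hi]; simp⟩⟩
      map_one' := rfl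
      map_mul' := fun _ _ => rfl }
  have hbij : Function.Bijective f := ⟨fun a b h => Subtype.ext (Subtype.ext (congrArg (Subtype.val : Subgroup.zpowers (g : G) → G) h)),
    fun h => by
      obtain ⟨i, hi⟩ := h.2
      exact ⟨⟨g ^ i, i, rfl⟩, Subtype.ext (by rw [← hi]; show ((g ^ i : H) : G) = (g : G) ^ i; simp)⟩⟩
  set e := MulEquiv.ofBijective f hbij
  constructor
  · rintro ⟨φ, k, hk, he⟩
    refine ⟨⟨_, IsIrrCharacter.comp_surjective φ.2 f hbij.2⟩, k, hk, ?_⟩
    rw [← he, ← classInner_comp_surjective f hbij.2]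
    rfl
  · rintro ⟨φ, k, hk, he⟩
    refine ⟨⟨_, IsIrrCharacter.comp_surjective φ.2 e.symm.toMonoidHom e.symm.surjective⟩, k, hk, ?_⟩
    rw [← he, ← classInner_comp_surjective f hbij.2]
    congr 1
    funext h
    show (φ : Subgroup.zpowers g → ℂ) (e.symm (e h)) = _
    rw [e.symm_apply_apply]

/-- The Sylow subgroup modulo the kernel of a twist. -/
theorem sylow_quotient (ζ : IrrCharacter G) (hfaith : ∀ g : G, (ζ : G → ℂ) g = (ζ : G → ℂ) 1 → g = 1)
    (hd : charDegree (ζ : G → ℂ) + 2 ≤ p) (P : Sylow p G) (hnn : ¬ (P : Subgroup G).Normal) (hidx : HasIndex p G)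
    (K : Subgroup G) [K.Normal] (hKp : IsPGroup p K)
    (hPK : ∀ P : Sylow p G, (P : Subgroup G) ⊓ Subgroup.center G ≤ K) :
    Nat.card (P.mapSurjective (QuotientGroup.mk'_surjective K)) = p ∧
      ¬ (P.mapSurjective (QuotientGroup.mk'_surjective K) : Subgroup (G ⧸ K)).Normal := by
  set f := QuotientGroup.mk' K
  set Q := P.mapSurjective (QuotientGroup.mk'_surjective K)
  have hQn : ¬ (Q : Subgroup (G ⧸ K)).Normal := fun h => by
    have h2 := h.comap f
    rw [show (Q : Subgroup (G ⧸ K)) = (P : Subgroup G).map f from rfl, Subgroup.comap_map_eq, QuotientGroup.ker_mk',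
      sup_eq_left.2 (le_sylow P hKp)] at h2
    exact hnn h2
  have hcore : (P : Subgroup G).normalCore ≤ K := fun r hr =>
    hPK P ⟨Subgroup.normalCore_le _ hr, core_le_center ζ hfaith hd P hnn hr⟩
  have hQle : Nat.card (Q : Subgroup (G ⧸ K)) ≤ p := by
    have h1 : Nat.card (P : Subgroup G) = Nat.card K * Nat.card (Q : Subgroup (G ⧸ K)) := by
      rw [show (Q : Subgroup (G ⧸ K)) = (P : Subgroup G).map f from rfl, ← Subgroup.relIndex_ker (P : Subgroup G) f,
        QuotientGroup.ker_mk', ← Subgroup.relIndex_bot_left K,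
        Subgroup.relIndex_mul_relIndex _ _ _ bot_le (le_sylow P hKp), Subgroup.relIndex_bot_left]
    have h2 := hidx P
    have h3 : Nat.card (P : Subgroup G).normalCore ≤ Nat.card K := Subgroup.card_le_of_le hcore
    have h4 : 0 < Nat.card K := Nat.card_pos
    refine Nat.le_of_mul_le_mul_left ?_ h4
    rw [← h1, mul_comm]
    exact h2.trans (Nat.mul_le_mul_left p h3)
  refine ⟨?_, hQn⟩
  obtain ⟨k, hk⟩ := IsPGroup.iff_card.1 Q.2
  match k, hk with
  | 0, hk =>
    refine absurd ?_ hQn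
    rw [pow_zero] at hk
    rw [Subgroup.eq_bot_of_card_eq _ hk]
    infer_instance
  | 1, hk => rw [pow_one] at hk; exact hk
  | k + 2, hk =>
    exfalso
    have : p ^ 1 < p ^ (k + 2) := Nat.pow_lt_pow_right hp.out.one_lt (by omega)
    rw [← hk, pow_one] at this
    omega

/-- A noncentral `p`-element has simple eigenvalues. -/
theorem free_of_index (hp5 : 5 ≤ p) (ζ : IrrCharacter G)
    (hfaith : ∀ g : G, (ζ : G → ℂ) g = (ζ : G → ℂ) 1 → g = 1) (hd : charDegree (ζ : G → ℂ) + 2 ≤ p)
    (P : Sylow p G) (hnn : ¬ (P : Subgroup G).Normal) (hidx : HasIndex p G) {v : G}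
    (hvp : IsPGroup p (Subgroup.zpowers v)) (hv : v ∉ Subgroup.center G) : Free (ζ : G → ℂ) v := by
  obtain ⟨ψ, hnorm, hdeg, hKZ, hKp, hPK⟩ := exists_twist (p := p) ζ hfaith (by omega)
  haveI := charKer_normal (isCharacter_irr ψ)
  obtain ⟨ψ', he, hf', hdeg'⟩ := exists_image ψ
  set K := charKer (isCharacter_irr ψ)
  set f := QuotientGroup.mk' K
  letI := Fintype.ofFinite (G ⧸ K)
  obtain ⟨hQ, hQn⟩ := sylow_quotient ζ hfaith hd P hnn hidx K hKp hPK
  set Q := P.mapSurjective (QuotientGroup.mk'_surjective K)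
  have hvo : orderOf (f v) = p := by
    have h1 : orderOf (f v) ∣ Nat.card (Q : Subgroup (G ⧸ K)) := orderOf_pElt (by
      rw [← MonoidHom.map_zpowers]
      exact hvp.map f) Q
    rw [show Nat.card (Q : Subgroup (G ⧸ K)) = p from hQ] at h1
    rcases (Nat.dvd_prime hp.out).1 h1 with h | h
    · exact absurd (hKZ ((QuotientGroup.eq_one_iff v).1 (orderOf_eq_one_iff.1 h))) hv
    · exact h
  obtain ⟨hfree, -⟩ := exact_facts hp5 hQ hQn ψ' hf' (by rw [hdeg', hdeg]; omega) hvo
  let g : Subgroup.zpowers v →* Subgroup.zpowers (f v) :=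
    { toFun := fun h => ⟨f h, by
        obtain ⟨i, hi⟩ := h.2
        exact ⟨i, by rw [← hi]; exact (map_zpow f v i).symm⟩⟩
      map_one' := Subtype.ext (map_one f)
      map_mul' := fun a b => Subtype.ext (map_mul f _ _) }
  have hg : Function.Surjective g := fun h => by
    obtain ⟨i, hi⟩ := h.2
    exact ⟨⟨v ^ i, i, rfl⟩, Subtype.ext (by rw [← hi]; exact map_zpow f v i)⟩
  unfold Free at hfree ⊢
  have h1 : (ζ : G → ℂ) 1 = (ψ' : G ⧸ K → ℂ) 1 := by
    rw [irr_one_eq, irr_one_eq, hdeg', hdeg]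
  rw [h1, ← hfree, ← classInner_comp_surjective g hg]
  simp only [Cfsg.classInner]
  congr 1
  refine Finset.sum_congr rfl fun h _ => ?_
  rw [Complex.mul_conj', Complex.mul_conj', ← hnorm, he]
  rfl

/-- An abelian family of conjugate `p`-elements generates a `p`-group. -/
theorem isPGroup_normalClosure {v : G} (hvp : IsPGroup p (Subgroup.zpowers v))
    (hc : ∀ a b : G, (a * v * a⁻¹) * (b * v * b⁻¹) = (b * v * b⁻¹) * (a * v * a⁻¹)) :
    IsPGroup p (Subgroup.normalClosure ({v} : Set G)) := by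
  obtain ⟨k, hk⟩ := IsPGroup.iff_card.1 hvp
  rw [Nat.card_zpowers] at hk
  set S := Group.conjugatesOfSet ({v} : Set G)
  have hS : ∀ a ∈ S, ∀ b ∈ S, a * b = b * a := by
    intro a ha b hb
    rw [Group.mem_conjugatesOfSet_iff] at ha hb
    obtain ⟨v', hv', ha⟩ := ha
    obtain ⟨v'', hv'', hb⟩ := hb
    rw [Set.mem_singleton_iff] at hv' hv''
    subst hv'; subst hv''
    obtain ⟨x, rfl⟩ := isConj_iff.1 ha
    obtain ⟨y, rfl⟩ := isConj_iff.1 hb
    exact hc x y
  have hA : ∀ a ∈ Subgroup.closure S, ∀ b ∈ Subgroup.closure S, a * b = b * a := by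
    have h1 : S ⊆ Subgroup.centralizer (Subgroup.closure S : Set G) := by
      intro a ha
      rw [SetLike.mem_coe, Subgroup.mem_centralizer_iff]
      intro b hb
      have : Subgroup.closure S ≤ Subgroup.centralizer {a} := (Subgroup.closure_le _).2 fun c hc' =>
        Subgroup.mem_centralizer_singleton_iff.2 (hS c hc' a ha)
      exact Subgroup.mem_centralizer_singleton_iff.1 (this hb)
    intro a ha b hb
    exact Subgroup.mem_centralizer_iff.1 ((Subgroup.closure_le _).2 h1 hb) a ha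
  intro ⟨a, ha⟩
  refine ⟨k, Subtype.ext ?_⟩
  show a ^ p ^ k = 1
  change a ∈ Subgroup.closure S at ha
  induction ha using Subgroup.closure_induction with
  | mem x hx =>
    obtain ⟨v', hv', hx'⟩ := Group.mem_conjugatesOfSet_iff.1 hx
    rw [Set.mem_singleton_iff] at hv'
    subst hv'
    obtain ⟨c, rfl⟩ := isConj_iff.1 hx'
    rw [conj_pow, ← hk, pow_orderOf_eq_one, mul_one, mul_inv_cancel]
  | one => exact one_pow _
  | mul x y hx hy hx' hy' => rw [(show Commute x y from hA x hx y hy).mul_pow, hx', hy', one_mul]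
  | inv x _ hx' => rw [inv_pow, hx', inv_one]

end CfsgLib.Char.FeitDegree.Index
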