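import Cfsg.Agent.Lib.Char.FeitDegree.Index.Edge
import Cfsg.Agent.S0898

/-!
# A minimal group with a large index: centralizers separate the Sylow subgroups
-/

set_option autoImplicit false

open scoped Classical ComplexConjugate Pointwise

namespace CfsgLib.Char.FeitDegree.Index

open Cfsg CfsgLib CfsgLib.Blocks CfsgLib.Blocks.DefectOne

universe u

variable {G : Type u} [Group G] [Fintype G] {p : ℕ} [hp : Fact p.Prime]

/-- The hypotheses on a minimal group. -/
structure Minimal (p : ℕ) (χ : IrrCharacter G) : Prop where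
  five_le : 5 ≤ p
  faith : ∀ g : G, (χ : G → ℂ) g = (χ : G → ℂ) 1 → g = 1
  deg : charDegree (χ : G → ℂ) + 2 ≤ p
  small : ∀ (H : Type u) [Group H] [Fintype H], Nat.card H < Nat.card G → ∀ ψ : H → ℂ, Cfsg.IsCharacter H ψ →
    (∀ h : H, ψ h = ψ 1 → h = 1) → charDegree ψ + 2 ≤ p → HasIndex p H
  not_normal : ∀ P : Sylow p G, ¬ (P : Subgroup G).Normal
  core : ∀ P : Sylow p G, (P : Subgroup G).normalCore = ⊥
  big : ∀ P : Sylow p G, p < Nat.card (P : Subgroup G)

namespace Minimal

variable {χ : IrrCharacter G} (M : Minimal p χ)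
include M

omit hp in
theorem pElt_center {v : G} (hv : IsPGroup p (Subgroup.zpowers v)) (hvZ : v ∈ Subgroup.center G) : v = 1 := by
  obtain ⟨P⟩ : Nonempty (Sylow p G) := inferInstance
  haveI : (Subgroup.zpowers v).Normal := ⟨fun a ha g => by
    have hac : a ∈ Subgroup.center G := Subgroup.zpowers_le.2 hvZ ha
    rwa [Subgroup.mem_center_iff.1 hac g, mul_inv_cancel_right]⟩
  have h := le_core P hv
  rwa [M.core P, le_bot_iff, Subgroup.zpowers_eq_bot] at h

theorem comm (P : Sylow p G) : ∀ x ∈ (P : Subgroup G), ∀ y ∈ (P : Subgroup G), x * y = y * x :=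
  CharDeep.SmallFaithful.pGroup_comm (isCharacter_irr χ) M.faith (by have := M.deg; omega) P.2

theorem noTwo : NoTwo p (χ : G → ℂ) := by
  intro g N a b m n hN ha hb hr hm hn hval hpow
  refine SmallLinear.TwoEigen.false_of_ratio χ g hN (fun u hu => ?_) ha hb hr hm hn hval
  obtain ⟨i, hi, hi1⟩ := hpow u hu
  refine SmallLinear.irr_normalClosure χ M.faith M.deg (fun L hL hLp => ?_) hi fun h => hi1 (M.pElt_center hi h)
  haveI := hL
  obtain ⟨P⟩ : Nonempty (Sylow p G) := inferInstance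
  exact (le_core P hLp).trans (le_of_eq (M.core P)) |>.trans bot_le

/-- A nontrivial `p`-element has all eigenvalue multiplicities below half of `p`. -/
theorem not_big {v : G} (hvp : IsPGroup p (Subgroup.zpowers v)) (hv1 : v ≠ 1) {t : ℕ} (ht : 2 * t + 1 = p) :
    ¬ Big (χ : G → ℂ) v t := by
  intro hb
  have hd := M.deg
  have hall : ∀ c : G, v * (c * v * c⁻¹) = c * v * c⁻¹ * v := by
    intro c
    set w := c * v * c⁻¹
    have hwp : IsPGroup p (Subgroup.zpowers w) := by
      have h1 := hvp.map (MulAut.conj c).toMonoidHom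
      rwa [MonoidHom.map_zpowers] at h1
    have hwb : Big (χ : G → ℂ) w t := big_conj (isCharacter_irr χ) hb c
    set K := Subgroup.zpowers v ⊔ Subgroup.zpowers w with hK
    have hvK : v ∈ K := Subgroup.mem_sup_left (Subgroup.mem_zpowers v)
    have hwK : w ∈ K := Subgroup.mem_sup_right (Subgroup.mem_zpowers w)
    by_cases hKtop : K = ⊤
    · have h1 := charDegree_eq_one_of_big χ hb hwb (by omega) hKtop
      exact Char.DegHalf.comm_of_deg_one (isCharacter_irr χ) M.faith (by rw [irr_one_eq, h1, Nat.cast_one]) v w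
    have hcard : Nat.card K < Nat.card G :=
      lt_of_le_of_ne (Subgroup.card_le_card_group K) fun e => hKtop (K.eq_top_of_card_eq e)
    have hz : ∀ (a : G) (ha : a ∈ K), IsPGroup p (Subgroup.zpowers a) →
        IsPGroup p (Subgroup.zpowers (⟨a, ha⟩ : K)) := fun a ha h => by
      obtain ⟨k, hk⟩ := IsPGroup.iff_card.1 h
      exact IsPGroup.of_card (n := k) (by rw [Nat.card_zpowers, Subgroup.orderOf_mk, ← Nat.card_zpowers, hk])
    have h := commute_of_big M.five_le (IsCharacter.restrict (isCharacter_irr χ) K)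
      (fun g e => CharDeep.SmallFaithful.faithful_restrict M.faith K g e) hd
      (fun g N a b m n hN ha hb hr hm hn hval hpow => M.noTwo (g : G) N a b m n hN
        (by rwa [Subgroup.orderOf_coe]) (by rwa [Subgroup.orderOf_coe]) hr hm hn (fun k => by simpa using hval k)
        fun u hu => by
          obtain ⟨i, hi, hi1⟩ := hpow u hu
          refine ⟨i, ?_, fun h => hi1 (Subtype.ext (by simpa using h))⟩
          have h1 := hi.map K.subtype
          rwa [MonoidHom.map_zpowers, map_pow, map_pow] at h1)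
      (fun φ hφ => by
        haveI := charKer_normal (isCharacter_irr φ)
        letI := Fintype.ofFinite (K ⧸ charKer (isCharacter_irr φ))
        obtain ⟨ψ, -, hf, hdeg⟩ := exists_image φ
        refine M.small _ (lt_of_le_of_lt ?_ hcard) (ψ : K ⧸ charKer (isCharacter_irr φ) → ℂ) (isCharacter_irr ψ) hf
          (hdeg ▸ hφ)
        exact Nat.le_of_dvd Nat.card_pos (Subgroup.card_quotient_dvd_card _))
      (hz v hvK hvp) (hz w hwK hwp) ht (big_restrict.1 hb) (big_restrict.1 hwb)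
    exact congrArg Subtype.val h
  have hN : IsPGroup p (Subgroup.normalClosure ({v} : Set G)) := isPGroup_normalClosure hvp fun a b => by
    calc a * v * a⁻¹ * (b * v * b⁻¹) = a * (v * (a⁻¹ * b * v * (a⁻¹ * b)⁻¹)) * a⁻¹ := by group
      _ = a * (a⁻¹ * b * v * (a⁻¹ * b)⁻¹ * v) * a⁻¹ := by rw [hall]
      _ = b * v * b⁻¹ * (a * v * a⁻¹) := by group
  obtain ⟨P⟩ : Nonempty (Sylow p G) := inferInstance
  have h := le_core P hN
  rw [M.core P] at h
  exact hv1 (Subgroup.mem_bot.1 (h (Subgroup.subset_normalClosure rfl)))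

/-- Two Sylow subgroups through a nontrivial element agree. -/
theorem unique {v : G} (hv1 : v ≠ 1) {S S' : Sylow p G} (hS : v ∈ (S : Subgroup G))
    (hS' : v ∈ (S' : Subgroup G)) : S = S' := by
  have hd := M.deg
  have hvp : IsPGroup p (Subgroup.zpowers v) := S.2.to_le (Subgroup.zpowers_le.2 hS)
  set C := Subgroup.centralizer ({v} : Set G) with hC
  have hle : ∀ T : Sylow p G, v ∈ (T : Subgroup G) → (T : Subgroup G) ≤ C := fun T hT x hx =>
    Subgroup.mem_centralizer_singleton_iff.2 (M.comm T x hx v hT)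
  have hvC : v ∈ C := Subgroup.mem_centralizer_singleton_iff.2 rfl
  have hres := IsCharacter.restrict (isCharacter_irr χ) C
  obtain ⟨m, -, hexp⟩ := IsCharacter.exists_multiplicity hres
  have hfC := fun (g : C) e => CharDeep.SmallFaithful.faithful_restrict M.faith C g e
  obtain ⟨t, ht⟩ : ∃ t, 2 * t + 1 = p := by
    obtain ⟨t, ht⟩ := hp.out.odd_of_ne_two (by have := M.five_le; omega)
    exact ⟨t, ht.symm⟩
  have hsmall : ∀ φ, m φ ≠ 0 → 2 * charDegree (φ : C → ℂ) + 1 < p := by
    intro φ h0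
    by_contra hbig
    refine M.not_big hvp hv1 ht (big_restrict (g := (⟨v, hvC⟩ : C)).2 (big_of_constituent hexp h0 ?_))
    have hb := big_of_norm_eq (isCharacter_irr φ) (g := (⟨v, hvC⟩ : C)) fun h hh => by
      have hc : h ∈ Subgroup.center C := by
        refine Subgroup.zpowers_le.2 ?_ hh
        exact Subgroup.mem_center_iff.2 fun g => Subtype.ext (Subgroup.mem_centralizer_singleton_iff.1 g.2)
      obtain ⟨ω, hω, hmul⟩ := DegreeBound.apply_central_mul φ.2 hc
      have := hmul 1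
      rw [mul_one] at this
      rw [this, norm_mul, hω, one_mul, DegreeTools.norm_apply_one]
    obtain ⟨μ, k, hk, he⟩ := hb
    exact ⟨μ, k, by omega, he⟩
  have hn := normal_of_all_small hfC hexp hsmall (S.subtype (hle S hS))
  haveI : Unique (Sylow p C) := Sylow.unique_of_normal _ hn
  have heq : S.subtype (hle S hS) = S'.subtype (hle S' hS') := Subsingleton.elim _ _
  have h1 := congrArg (fun Q : Sylow p C => (Q : Subgroup C).map C.subtype) heq
  simp only [Sylow.coe_subtype, Subgroup.subgroupOf_map_subtype, inf_eq_left.2 (hle S hS),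
    inf_eq_left.2 (hle S' hS')] at h1
  exact Sylow.ext h1

/-- No centralizer has a Sylow subgroup of order `p` that is not normal. -/
theorem no_bad {g : G} (hg : g ∉ Subgroup.center G) {v : G} (hvg : g * v = v * g) (hvp : IsPGroup p (Subgroup.zpowers v))
    (hv1 : v ≠ 1) (Q : Sylow p (Subgroup.centralizer ({g} : Set G)))
    (hQ : Nat.card (Q : Subgroup (Subgroup.centralizer ({g} : Set G))) ≤ p)
    (hQn : ¬ (Q : Subgroup (Subgroup.centralizer ({g} : Set G))).Normal) : False := by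
  have hd := M.deg
  revert Q
  set C := Subgroup.centralizer ({g} : Set G) with hC
  intro Q hQ hQn
  have hvC : v ∈ C := Subgroup.mem_centralizer_singleton_iff.2 hvg.symm
  have hgC : g ∈ C := Subgroup.mem_centralizer_singleton_iff.2 rfl
  obtain ⟨t, ht⟩ : ∃ t, 2 * t + 1 = p := by
    obtain ⟨t, ht⟩ := hp.out.odd_of_ne_two (by have := M.five_le; omega)
    exact ⟨t, ht.symm⟩
  -- the element has order `p`
  have hvp' : IsPGroup p (Subgroup.zpowers (⟨v, hvC⟩ : C)) := by
    obtain ⟨k, hk⟩ := IsPGroup.iff_card.1 hvp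
    exact IsPGroup.of_card (n := k) (by rw [Nat.card_zpowers, Subgroup.orderOf_mk, ← Nat.card_zpowers, hk])
  have hvo : orderOf v = p := by
    have h1 := orderOf_pElt hvp' Q
    rw [Subgroup.orderOf_mk] at h1
    obtain ⟨k, hk⟩ := IsPGroup.iff_card.1 Q.2
    rw [hk] at h1 hQ
    have hk1 : k ≤ 1 := by
      by_contra h
      have : p ^ 1 < p ^ k := Nat.pow_lt_pow_right hp.out.one_lt (by omega)
      rw [pow_one] at this
      omega
    have h2 : orderOf v ∣ p := h1.trans (by
      interval_cases k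
      · simp
      · simp)
    rcases (Nat.dvd_prime hp.out).1 h2 with h | h
    · exact absurd (orderOf_eq_one_iff.1 h) hv1
    · exact h
  have hQp : Nat.card (Q : Subgroup C) = p := by
    refine le_antisymm hQ ?_
    have h1 := orderOf_pElt hvp' Q
    rw [Subgroup.orderOf_mk, hvo] at h1
    exact Nat.le_of_dvd Nat.card_pos h1
  -- a Sylow subgroup through `v`
  obtain ⟨S, hS⟩ := hvp.exists_le_sylow
  have hvS : v ∈ (S : Subgroup G) := hS (Subgroup.mem_zpowers v)
  have hgS : ∀ x ∈ (S : Subgroup G), g * x * g⁻¹ ∈ (S : Subgroup G) := by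
    intro x hx
    have h : g • S = S := M.unique hv1 (S := g • S) (by
      rw [Sylow.coe_subgroup_smul]
      exact ⟨v, hvS, by show g * v * g⁻¹ = v; rw [hvg, mul_inv_cancel_right]⟩) hvS
    rw [← h, Sylow.coe_subgroup_smul]
    exact ⟨x, hx, rfl⟩
  obtain ⟨w, hwS, hwC⟩ : ∃ w ∈ (S : Subgroup G), w ∉ C := by
    by_contra hc
    push Not at hc
    have h1 : Nat.card ((S : Subgroup G).subgroupOf C) = Nat.card (S : Subgroup G) :=
      Nat.card_congr (Subgroup.subgroupOfEquivOfLe hc).toEquiv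
    have h2 : Nat.card ((S : Subgroup G).subgroupOf C) ≤ p := by
      have h3 : Nat.card (S.subtype hc : Sylow p C) = Nat.card Q := Nat.card_congr ((S.subtype hc).equiv Q).toEquiv
      refine le_of_eq ((?_ : _ = Nat.card (Q : Subgroup C)).trans hQp)
      rw [← Sylow.coe_subtype (h := hc)]
      exact h3
    have := M.big S
    omega
  set τ := w * g * w⁻¹ * g⁻¹ with hτ
  have hτS : τ ∈ (S : Subgroup G) := by
    rw [hτ, mul_assoc w, mul_assoc w]
    exact mul_mem hwS (hgS _ (inv_mem hwS))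
  have hτ1 : τ ≠ 1 := fun h => hwC (by
    rw [hτ, mul_inv_eq_one, mul_inv_eq_iff_eq_mul] at h
    exact Subgroup.mem_centralizer_singleton_iff.2 h)
  refine M.not_big (S.2.to_le (Subgroup.zpowers_le.2 hτS)) hτ1 ht ?_
  -- the constituents on the centralizer of `g`
  have hres := IsCharacter.restrict (isCharacter_irr χ) C
  have hfC := fun (x : C) e => CharDeep.SmallFaithful.faithful_restrict M.faith C x e
  obtain ⟨m, -, hexp⟩ := IsCharacter.exists_multiplicity hres
  obtain ⟨θ, h0, hb⟩ : ∃ θ, m θ ≠ 0 ∧ p ≤ 2 * charDegree (θ : C → ℂ) + 1 := by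
    by_contra hc
    push Not at hc
    exact hQn (normal_of_all_small hfC hexp hc Q)
  obtain ⟨hm1, huniq⟩ := big_unique hres hexp hd h0 hb
  have hker : ∀ φ : IrrCharacter C, ((⟨v, hvC⟩ : C) ∉ charKer (isCharacter_irr φ)) →
      ¬ p ∣ Nat.card (charKer (isCharacter_irr φ)) := by
    intro φ hv' hdvd
    haveI := charKer_normal (isCharacter_irr φ)
    obtain ⟨y, hy⟩ := exists_prime_orderOf_dvd_card' p hdvd
    have hyo : orderOf (y : C) = p := by rw [Subgroup.orderOf_coe]; exact hy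
    obtain ⟨a, ha⟩ := exists_conj_sylow (P := Q) hQp hyo
    obtain ⟨b, hb'⟩ := exists_conj_sylow (P := Q) hQp (v := (⟨v, hvC⟩ : C)) (by rw [Subgroup.orderOf_mk]; exact hvo)
    refine hv' ?_
    have hQle : (Q : Subgroup C) ≤ charKer (isCharacter_irr φ) := by
      rw [ha]
      rintro _ ⟨z, hz, rfl⟩
      exact ‹(charKer (isCharacter_irr φ)).Normal›.conj_mem z (Subgroup.zpowers_le.2 y.2 hz) a
    have hm := hQle (hb'.symm ▸ Subgroup.mem_map_of_mem _ (Subgroup.mem_zpowers (⟨v, hvC⟩ : C)))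
    have h2 := ‹(charKer (isCharacter_irr φ)).Normal›.conj_mem _ hm b⁻¹
    simpa [MulAut.conj_apply, mul_assoc] using h2
  have hsup : ∀ φ : IrrCharacter C, ¬ p ∣ Nat.card (charKer (isCharacter_irr φ)) →
      haveI := charKer_normal (isCharacter_irr φ)
      ¬ ((Q : Subgroup C).map (QuotientGroup.mk' (charKer (isCharacter_irr φ)))).Normal := by
    intro φ hφ
    haveI := charKer_normal (isCharacter_irr φ)
    intro h
    refine hQn (normal_of_kernel hres hfC (show charDegree (χ : G → ℂ) + 2 ≤ p by omega) Q _ hφ ?_)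
    have h2 := h.comap (QuotientGroup.mk' (charKer (isCharacter_irr φ)))
    rwa [Subgroup.comap_map_eq, QuotientGroup.ker_mk', sup_comm] at h2
  have hsmall : ∀ φ, φ ≠ θ → m φ ≠ 0 → (φ : C → ℂ) ⟨v, hvC⟩ = (φ : C → ℂ) 1 := by
    intro φ hne h
    by_contra hv'
    exact hsup φ (hker φ hv') (image_normal Q φ (huniq φ hne h))
  have hθv : (⟨v, hvC⟩ : C) ∉ charKer (isCharacter_irr θ) := fun h => hv1 (congrArg Subtype.val
    (eq_one_of_kers hfC hexp fun φ h' => if e : φ = θ then e ▸ (mem_charKer _).1 h else hsmall φ e h'))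
  have hθp := hker θ hθv
  haveI := charKer_normal (isCharacter_irr θ)
  obtain ⟨θ', hθe, hθf, hθd⟩ := exists_image θ
  set f := QuotientGroup.mk' (charKer (isCharacter_irr θ))
  letI := Fintype.ofFinite (C ⧸ charKer (isCharacter_irr θ))
  set R := Q.mapSurjective (QuotientGroup.mk'_surjective (charKer (isCharacter_irr θ)))
  have hR : Nat.card R = p := by
    show Nat.card (R : Subgroup (C ⧸ charKer (isCharacter_irr θ))) = p
    rw [show (R : Subgroup (C ⧸ charKer (isCharacter_irr θ))) = (Q : Subgroup C).map f from rfl,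
      ← Subgroup.relIndex_ker (Q : Subgroup C) f, QuotientGroup.ker_mk', ← Subgroup.inf_relIndex_right,
      Subgroup.inf_eq_bot_of_coprime (by rw [hQp]; exact ((Nat.Prime.coprime_iff_not_dvd hp.out).2 hθp).symm),
      Subgroup.relIndex_bot_left, hQp]
  have hvo' : orderOf (f ⟨v, hvC⟩) = p := by
    refine orderOf_eq_prime ?_ fun h => hθv ((QuotientGroup.eq_one_iff _).1 h)
    rw [← map_pow, show (⟨v, hvC⟩ : C) ^ p = 1 from Subtype.ext (by
      show v ^ p = 1; rw [← hvo, pow_orderOf_eq_one]), map_one]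
  obtain ⟨-, m₀, hm₀, hhalf⟩ := exact_facts M.five_le hR (hsup θ hθp) θ' hθf (by
    have h := sum_deg hres hexp
    have h2 := Finset.single_le_sum (f := fun φ => m φ * charDegree (φ : C → ℂ)) (fun _ _ => Nat.zero_le _)
      (Finset.mem_univ θ)
    have h3 : charDegree (fun x : C => (χ : G → ℂ) x) = charDegree (χ : G → ℂ) := rfl
    rw [hm1, one_mul] at h2
    omega) hvo'
  rw [hθd] at hhalf
  set dθ := charDegree (θ : C → ℂ) with hdθ
  -- the sum of `θ` over the powers of `v`
  have hθsum : ∑ h : Subgroup.zpowers (⟨v, hvC⟩ : C), (θ : C → ℂ) h = (p : ℂ) * m₀ := by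
    let q : Subgroup.zpowers (⟨v, hvC⟩ : C) →* Subgroup.zpowers (f ⟨v, hvC⟩) :=
      { toFun := fun h => ⟨f h, by
          obtain ⟨i, hi⟩ := h.2
          exact ⟨i, by rw [← hi]; exact (map_zpow f _ i).symm⟩⟩
        map_one' := Subtype.ext (map_one f)
        map_mul' := fun a b => Subtype.ext (map_mul f _ _) }
    have hq : Function.Surjective q := fun h => by
      obtain ⟨i, hi⟩ := h.2
      exact ⟨⟨(⟨v, hvC⟩ : C) ^ i, i, rfl⟩, Subtype.ext (by rw [← hi]; exact map_zpow f _ i)⟩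
    rw [← classInner_comp_surjective q hq, show (fun _ : Subgroup.zpowers (f ⟨v, hvC⟩) => (1 : ℂ)) ∘ q
      = fun _ => 1 from rfl, classInner_fun_one_right, Nat.card_zpowers, Subgroup.orderOf_mk, hvo,
      inv_mul_eq_iff_eq_mul₀ (Nat.cast_ne_zero.2 hp.out.ne_zero)] at hm₀
    rw [← hm₀]
    exact Finset.sum_congr rfl fun h _ => congrFun hθe (h : C)
  -- the scalar of `g` on `θ`
  obtain ⟨α, hα, hαmul⟩ := DegreeBound.apply_central_mul θ.2 (show (⟨g, hgC⟩ : C) ∈ Subgroup.center C from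
    Subgroup.mem_center_iff.2 fun x => Subtype.ext (Subgroup.mem_centralizer_singleton_iff.1 x.2))
  -- the part where `v` is nontrivial
  set F : C → ℂ := fun x => (p : ℂ) * (χ : G → ℂ) x - ∑ h : Subgroup.zpowers (⟨v, hvC⟩ : C), (χ : G → ℂ) ((h : C) * x)
    with hF
  have hFeq : ∀ x : C, F x = (p : ℂ) * (θ : C → ℂ) x - ∑ h : Subgroup.zpowers (⟨v, hvC⟩ : C), (θ : C → ℂ) ((h : C) * x)
      := by
    intro x
    have hex : ∀ y : C, (χ : G → ℂ) y = (θ : C → ℂ) y + ∑ φ ∈ Finset.univ.erase θ, (m φ : ℂ) * (φ : C → ℂ) y :=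
      fun y => by
        have h := hexp y
        rwa [← Finset.add_sum_erase _ _ (Finset.mem_univ θ), hm1, Nat.cast_one, one_mul] at h
    have hfix : ∀ h : Subgroup.zpowers (⟨v, hvC⟩ : C), ∑ φ ∈ Finset.univ.erase θ, (m φ : ℂ) * (φ : C → ℂ) ((h : C) * x)
        = ∑ φ ∈ Finset.univ.erase θ, (m φ : ℂ) * (φ : C → ℂ) x := fun h => by
      refine Finset.sum_congr rfl fun φ hφ => ?_
      by_cases h' : m φ = 0
      · simp [h']
      congr 1
      exact IsCharacter.apply_mul_of_mem_ker (isCharacter_irr φ) ((mem_charKer (isCharacter_irr φ)).1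
        (Subgroup.zpowers_le.2 ((mem_charKer (isCharacter_irr φ)).2 (hsmall φ (Finset.ne_of_mem_erase hφ) h')) h.2)) x
    simp only [hF]
    rw [hex x, Finset.sum_congr rfl (g := fun h : Subgroup.zpowers (⟨v, hvC⟩ : C) => (θ : C → ℂ) ((h : C) * x)
        + ∑ φ ∈ Finset.univ.erase θ, (m φ : ℂ) * (φ : C → ℂ) x) fun h _ => by
          rw [← hfix h, ← hex]
          rfl, Finset.sum_add_distrib, Finset.sum_const,
      Finset.card_univ, ← Nat.card_eq_fintype_card, Nat.card_zpowers, Subgroup.orderOf_mk, hvo, nsmul_eq_mul]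
    ring
  have hF1 : F 1 = (p : ℂ) * ((dθ : ℂ) - m₀) := by
    rw [hFeq, irr_one_eq, ← hdθ, Finset.sum_congr rfl fun h _ => by rw [mul_one], hθsum]
    ring
  have hFg : F ⟨g, hgC⟩ = α * F 1 := by
    rw [hF1, hFeq, Finset.sum_congr rfl (g := fun h : Subgroup.zpowers (⟨v, hvC⟩ : C) => α * (θ : C → ℂ) h)
      fun h _ => by rw [Subgroup.mem_center_iff.1 (show (⟨g, hgC⟩ : C) ∈ Subgroup.center C from
        Subgroup.mem_center_iff.2 fun x => Subtype.ext (Subgroup.mem_centralizer_singleton_iff.1 x.2)) (h : C)]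
                    exact (hαmul _), ← Finset.mul_sum, hθsum,
      show (θ : C → ℂ) ⟨g, hgC⟩ = α * (θ : C → ℂ) 1 by have := hαmul 1; rwa [mul_one] at this, irr_one_eq, ← hdθ]
    ring
  -- the constituents on the centralizer of `v`
  set H := Subgroup.centralizer ({v} : Set G) with hH
  have hvH : v ∈ H := Subgroup.mem_centralizer_singleton_iff.2 rfl
  have hgH : g ∈ H := Subgroup.mem_centralizer_singleton_iff.2 hvg
  have hwH : w ∈ H := Subgroup.mem_centralizer_singleton_iff.2 (M.comm S w hwS v hvS)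
  have hτH : τ ∈ H := mul_mem (mul_mem (mul_mem hwH hgH) (inv_mem hwH)) (inv_mem hgH)
  have hvz : (⟨v, hvH⟩ : H) ∈ Subgroup.center H :=
    Subgroup.mem_center_iff.2 fun x => Subtype.ext (Subgroup.mem_centralizer_singleton_iff.1 x.2)
  obtain ⟨m', -, hexp'⟩ := IsCharacter.exists_multiplicity (IsCharacter.restrict (isCharacter_irr χ) H)
  set V := Subgroup.zpowers (⟨v, hvH⟩ : H) with hV
  have hVcard : Nat.card V = p := by rw [hV, Nat.card_zpowers, Subgroup.orderOf_mk, hvo]
  set P' := Finset.univ.filter fun φ : IrrCharacter H => (φ : H → ℂ) ⟨v, hvH⟩ ≠ (φ : H → ℂ) 1 with hP'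
  have hG' : ∀ x : H, (p : ℂ) * (χ : G → ℂ) x - ∑ h : V, (χ : G → ℂ) ((h : H) * x)
      = (p : ℂ) * ∑ φ ∈ P', (m' φ : ℂ) * (φ : H → ℂ) x := by
    intro x
    have e1 : ∀ φ : IrrCharacter H, (p : ℂ) * (φ : H → ℂ) x - ∑ h : V, (φ : H → ℂ) ((h : H) * x)
        = if φ ∈ P' then (p : ℂ) * (φ : H → ℂ) x else 0 := by
      intro φ
      obtain ⟨c, hc, hmul⟩ := DegreeBound.apply_central_mul φ.2 hvz
      by_cases h : φ ∈ P'
      · rw [if_pos h, sub_eq_self]
        have hc1 : c ≠ 1 := fun e => (Finset.mem_filter.1 h).2 (by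
          have := hmul 1; rwa [mul_one, e, one_mul] at this)
        have hs : ∑ h : V, (φ : H → ℂ) ((h : H) * x) = c * ∑ h : V, (φ : H → ℂ) ((h : H) * x) := by
          rw [Finset.mul_sum]
          exact (Fintype.sum_equiv (Equiv.mulLeft (⟨_, Subgroup.mem_zpowers _⟩ : V)) _ _ fun h => by
            show c * _ = (φ : H → ℂ) ((⟨v, hvH⟩ : H) * (h : H) * x)
            rw [mul_assoc, hmul]).symm
        exact (mul_eq_zero.1 (show (1 - c) * ∑ h : V, (φ : H → ℂ) ((h : H) * x) = 0 by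
          rw [sub_mul, one_mul, ← hs, sub_self])).resolve_left (sub_ne_zero.2 hc1.symm)
      · rw [if_neg h, sub_eq_zero, Finset.sum_congr rfl (g := fun _ => (φ : H → ℂ) x) fun h' _ => ?_, Finset.sum_const,
          Finset.card_univ, ← Nat.card_eq_fintype_card, hVcard, nsmul_eq_mul]
        refine IsCharacter.apply_mul_of_mem_ker (isCharacter_irr φ) ((mem_charKer _).1
          (Subgroup.zpowers_le.2 ((mem_charKer (isCharacter_irr φ)).2 ?_) h'.2)) x
        by_contra hne
        exact h (Finset.mem_filter.2 ⟨Finset.mem_univ _, hne⟩)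
    rw [show ∑ h : V, (χ : G → ℂ) ((h : H) * x : G) = ∑ h : V, ∑ φ, (m' φ : ℂ) * (φ : H → ℂ) ((h : H) * x)
      from Finset.sum_congr rfl fun h _ => hexp' ((h : H) * x), hexp', Finset.mul_sum, Finset.sum_comm,
      ← Finset.sum_sub_distrib, Finset.mul_sum, ← Finset.univ_inter P', ← Finset.sum_ite_mem]
    refine Finset.sum_congr rfl fun φ _ => ?_
    rw [← Finset.mul_sum, show (p : ℂ) * ((m' φ : ℂ) * (φ : H → ℂ) x) = (m' φ : ℂ) * ((p : ℂ) * (φ : H → ℂ) x) by ring,
      ← mul_sub, e1]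
    split_ifs <;> simp
  have hFH : ∀ (x : G) (hxC : x ∈ C) (hxH : x ∈ H),
      F ⟨x, hxC⟩ = (p : ℂ) * ∑ φ ∈ P', (m' φ : ℂ) * (φ : H → ℂ) ⟨x, hxH⟩ := by
    intro x hxC hxH
    rw [← hG']
    simp only [hF]
    congr 1
    refine Fintype.sum_equiv (Equiv.ofBijective (fun h : Subgroup.zpowers (⟨v, hvC⟩ : C) =>
      (⟨⟨((h : C) : G), by
        obtain ⟨i, hi⟩ := h.2
        rw [← hi]; simpa using H.zpow_mem hvH i⟩, by
        obtain ⟨i, hi⟩ := h.2
        refine ⟨i, Subtype.ext ?_⟩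
        have := congrArg (Subtype.val : C → G) hi
        simpa using this⟩ : V)) ?_) _ _ fun h => rfl
    refine (Fintype.bijective_iff_injective_and_card _).2 ⟨fun a b e => Subtype.ext (Subtype.ext
      (congrArg (fun z : V => ((z : H) : G)) e)), ?_⟩
    rw [← Nat.card_eq_fintype_card, ← Nat.card_eq_fintype_card, hVcard, Nat.card_zpowers, Subgroup.orderOf_mk, hvo]
  have hp0 : (p : ℂ) ≠ 0 := Nat.cast_ne_zero.2 hp.out.ne_zero
  have hsum1 : ((∑ φ ∈ P', m' φ * charDegree (φ : H → ℂ) : ℕ) : ℂ) = (dθ : ℂ) - m₀ := by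
    have h := hFH 1 (one_mem _) (one_mem _)
    rw [show (⟨1, one_mem _⟩ : C) = 1 from rfl, hF1] at h
    rw [mul_left_cancel₀ hp0 h, Nat.cast_sum]
    exact Finset.sum_congr rfl fun φ _ => by
      rw [Nat.cast_mul, show (⟨1, one_mem _⟩ : H) = 1 from rfl, irr_one_eq]
  have hsumg : ∑ φ ∈ P', (m' φ : ℂ) * (φ : H → ℂ) ⟨g, hgH⟩ = α * ((dθ : ℂ) - m₀) := by
    have h := hFH g hgC hgH
    rw [hFg, hF1, ← mul_assoc, mul_comm α, mul_assoc] at h
    exact (mul_left_cancel₀ hp0 h).symm
  have hτker : ∀ φ ∈ P', m' φ ≠ 0 → (φ : H → ℂ) ⟨τ, hτH⟩ = (φ : H → ℂ) 1 := by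
    have hzero : ∑ φ ∈ P', (m' φ : ℝ) * ((charDegree (φ : H → ℂ) : ℝ) - (conj α * (φ : H → ℂ) ⟨g, hgH⟩).re) = 0 := by
      simp only [mul_sub, Finset.sum_sub_distrib]
      have h1 : (∑ φ ∈ P', (m' φ : ℝ) * (charDegree (φ : H → ℂ) : ℝ)) = ((dθ : ℂ) - m₀).re := by
        rw [← hsum1, Complex.natCast_re]; push_cast; rfl
      have h2 : (∑ φ ∈ P', (m' φ : ℝ) * (conj α * (φ : H → ℂ) ⟨g, hgH⟩).re) = ((dθ : ℂ) - m₀).re := by
        have : conj α * ∑ φ ∈ P', (m' φ : ℂ) * (φ : H → ℂ) ⟨g, hgH⟩ = (dθ : ℂ) - m₀ := by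
          rw [hsumg, ← mul_assoc, mul_comm (conj α), Complex.mul_conj', hα]; simp
        rw [← this, Finset.mul_sum, Complex.re_sum]
        exact Finset.sum_congr rfl fun φ _ => by rw [mul_left_comm, ← Complex.ofReal_natCast, Complex.re_ofReal_mul]
      rw [h1, h2, sub_self]
    have hnn : ∀ φ ∈ P', 0 ≤ (m' φ : ℝ) * ((charDegree (φ : H → ℂ) : ℝ) - (conj α * (φ : H → ℂ) ⟨g, hgH⟩).re) := by
      intro φ _
      refine mul_nonneg (Nat.cast_nonneg _) (sub_nonneg.2 ((Complex.re_le_norm _).trans ?_))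
      rw [norm_mul, Complex.norm_conj, hα, one_mul]
      exact DegreeTools.norm_apply_le φ _
    intro φ hφ h'
    have h1 := ((mul_eq_zero.1 ((Finset.sum_eq_zero_iff_of_nonneg hnn).1 hzero φ hφ))).resolve_left
      (Nat.cast_ne_zero.2 h')
    have hnorm : ‖(φ : H → ℂ) ⟨g, hgH⟩‖ = charDegree (φ : H → ℂ) := by
      refine le_antisymm (DegreeTools.norm_apply_le φ _) ?_
      calc (charDegree (φ : H → ℂ) : ℝ) = (conj α * (φ : H → ℂ) ⟨g, hgH⟩).re := by linarith
        _ ≤ ‖conj α * (φ : H → ℂ) ⟨g, hgH⟩‖ := Complex.re_le_norm _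
        _ = _ := by rw [norm_mul, Complex.norm_conj, hα, one_mul]
    obtain ⟨n, ρ, hirr, hρ⟩ := φ.2
    obtain ⟨ω, -, hω, -⟩ := exists_scalar_of_norm_char_eq ρ ⟨g, hgH⟩ (by
      rw [hρ, hnorm, ← DegreeTools.norm_apply_one, ← hρ, Representation.char_one, Complex.norm_natCast])
    rw [← hρ]
    show LinearMap.trace ℂ _ (ρ _) = LinearMap.trace ℂ _ (ρ 1)
    congr 1
    rw [show (⟨τ, hτH⟩ : H) = ⟨w, hwH⟩ * ⟨g, hgH⟩ * (⟨w, hwH⟩ : H)⁻¹ * (⟨g, hgH⟩ : H)⁻¹ from rfl, map_mul, map_mul,
      map_mul, hω, ← Module.End.one_eq_id, mul_smul_comm, mul_one, smul_mul_assoc, ← map_mul, mul_inv_cancel, map_one,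
      smul_mul_assoc, one_mul, ← one_mul (ρ (⟨g, hgH⟩ : H)⁻¹), ← smul_mul_assoc, Module.End.one_eq_id, ← hω, ← map_mul,
      mul_inv_cancel, map_one]
    rfl
  -- so the eigenvalue `1` of `τ` is frequent
  refine (big_restrict (g := (⟨τ, hτH⟩ : H))).2 ?_
  choose c hc using fun φ : IrrCharacter H => IsCharacter.classInner_nat
    (IsCharacter.restrict (isCharacter_irr φ) (Subgroup.zpowers (⟨τ, hτH⟩ : H))) isCharacter_one
  refine ⟨DegreeTools.oneChar _, ∑ φ, m' φ * c φ, ?_, ?_⟩
  · have h1 : ∑ φ ∈ P', m' φ * charDegree (φ : H → ℂ) + m₀ = dθ := by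
      apply Nat.cast_injective (R := ℂ)
      rw [Nat.cast_add, hsum1, sub_add_cancel]
    have h2 : ∑ φ ∈ P', m' φ * charDegree (φ : H → ℂ) ≤ ∑ φ, m' φ * c φ := by
      refine le_trans (le_of_eq (Finset.sum_congr rfl fun φ hφ => ?_)) (Finset.sum_le_sum_of_subset (Finset.subset_univ P'))
      by_cases h' : m' φ = 0
      · simp [h']
      congr 1
      apply Nat.cast_injective (R := ℂ)
      rw [← hc, classInner_fun_one_right, Finset.sum_congr rfl (g := fun _ => (φ : H → ℂ) 1) fun h _ =>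
        (mem_charKer (isCharacter_irr φ)).1 (Subgroup.zpowers_le.2 ((mem_charKer _).2 (hτker φ hφ h')) h.2),
        Finset.sum_const, Finset.card_univ, nsmul_eq_mul, ← Nat.card_eq_fintype_card, ← mul_assoc,
        inv_mul_cancel₀ card_ne_zero, one_mul, irr_one_eq]
    omega
  · rw [show (fun h : Subgroup.zpowers (⟨τ, hτH⟩ : H) => (χ : G → ℂ) ((h : H) : G))
      = ∑ φ, (m' φ : ℂ) • fun h : Subgroup.zpowers (⟨τ, hτH⟩ : H) => (φ : H → ℂ) h
      from funext fun h => by rw [hexp']; simp [Finset.sum_apply], classInner_sum_left, Nat.cast_sum]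
    refine Finset.sum_congr rfl fun φ _ => ?_
    rw [classInner_smul_left, Nat.cast_mul, ← hc]
    rfl

/-- A noncentral element centralizes elements of at most one Sylow subgroup. -/
theorem separated (P : Sylow p G) (g : G) (hg : g ∉ Subgroup.center G) (a b : G)
    (ha : Subgroup.centralizer ({g} : Set G) ⊓ (P : Subgroup G).map (MulAut.conj a).toMonoidHom ≠ ⊥)
    (hb : Subgroup.centralizer ({g} : Set G) ⊓ (P : Subgroup G).map (MulAut.conj b).toMonoidHom ≠ ⊥) :
    (P : Subgroup G).map (MulAut.conj a).toMonoidHom = (P : Subgroup G).map (MulAut.conj b).toMonoidHom := by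
  set C := Subgroup.centralizer ({g} : Set G) with hC
  have hco : ∀ c : G, ((c • P : Sylow p G) : Subgroup G) = (P : Subgroup G).map (MulAut.conj c).toMonoidHom :=
    fun c => by rw [Sylow.coe_subgroup_smul]; rfl
  rw [← hco, ← hco]
  obtain ⟨u, hu, hu1⟩ := (Subgroup.bot_or_exists_ne_one _).resolve_left ha
  obtain ⟨u', hu', hu'1⟩ := (Subgroup.bot_or_exists_ne_one _).resolve_left hb
  rw [← hco] at hu hu'
  have hup : IsPGroup p (Subgroup.zpowers u) := (a • P).2.to_le (Subgroup.zpowers_le.2 hu.2)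
  have hu'p : IsPGroup p (Subgroup.zpowers u') := (b • P).2.to_le (Subgroup.zpowers_le.2 hu'.2)
  have hz : ∀ (y : G) (hy : y ∈ C), IsPGroup p (Subgroup.zpowers y) → IsPGroup p (Subgroup.zpowers (⟨y, hy⟩ : C)) :=
    fun y hy h => by
      obtain ⟨k, hk⟩ := IsPGroup.iff_card.1 h
      exact IsPGroup.of_card (n := k) (by rw [Nat.card_zpowers, Subgroup.orderOf_mk, ← Nat.card_zpowers, hk])
  obtain ⟨Q⟩ : Nonempty (Sylow p C) := inferInstance
  have hcard : Nat.card C < Nat.card G := lt_of_le_of_ne (Subgroup.card_le_card_group C) fun e => hg (by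
    have h := C.eq_top_of_card_eq e
    rw [hC, Subgroup.centralizer_eq_top_iff_subset] at h
    exact h (Set.mem_singleton g))
  have hidx := M.small C hcard _ (IsCharacter.restrict (isCharacter_irr χ) C)
    (fun x e => CharDeep.SmallFaithful.faithful_restrict M.faith C x e) M.deg Q
  by_cases hR : (Q : Subgroup C).normalCore = ⊥
  · rw [hR, Subgroup.card_bot, mul_one] at hidx
    refine (M.no_bad hg (Subgroup.mem_centralizer_singleton_iff.1 hu.1).symm hup hu1 Q hidx fun hn => ?_).elim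
    haveI := hn
    rw [Subgroup.normalCore_eq_self] at hR
    have h1 := orderOf_pElt (hz u hu.1 hup) Q
    rw [hR, Subgroup.card_bot, Nat.dvd_one, Subgroup.orderOf_mk, orderOf_eq_one_iff] at h1
    exact hu1 h1
  obtain ⟨r, hr, hr1⟩ := (Subgroup.bot_or_exists_ne_one _).resolve_left hR
  have hr1' : (r : G) ≠ 1 := fun h => hr1 (Subtype.ext h)
  have hto : ∀ (y : G) (hy : y ∈ C) (S : Sylow p G), IsPGroup p (Subgroup.zpowers y) → y ≠ 1 →
      y ∈ (S : Subgroup G) → (r : G) ∈ (S : Subgroup G) := by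
    intro y hy S hyp hy1 hyS
    obtain ⟨Q', hQ'⟩ := (hz y hy hyp).exists_le_sylow
    have hrQ' : r ∈ (Q' : Subgroup C) := le_sylow Q' (core_isPGroup Q) hr
    obtain ⟨S', hS'⟩ := IsPGroup.exists_le_sylow (Q'.2.map C.subtype)
    rw [M.unique hy1 hyS (hS' ⟨_, hQ' (Subgroup.mem_zpowers _), rfl⟩)]
    exact hS' ⟨r, hrQ', rfl⟩
  rw [M.unique hr1' (hto u hu.1 _ hup hu1 hu.2) (hto u' hu'.1 _ hu'p hu'1 hu'.2)]

/-- There is no such group. -/
theorem false : False := by
  obtain ⟨P⟩ : Nonempty (Sylow p G) := inferInstance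
  have hd := M.deg
  have hbig := M.big P
  have hPZ : (P : Subgroup G) ⊓ Subgroup.center G = ⊥ := by
    rw [eq_bot_iff]
    exact fun z hz => Subgroup.mem_bot.2 (M.pElt_center (P.2.to_le (Subgroup.zpowers_le.2 hz.1)) hz.2)
  have hd1 : charDegree (χ : G → ℂ) ≠ 1 := fun h1 => M.not_normal P ⟨fun u _ c => by
    rwa [Char.DegHalf.comm_of_deg_one (isCharacter_irr χ) M.faith (by rw [irr_one_eq, h1, Nat.cast_one]) c u,
      mul_inv_cancel_right]⟩
  have hmove : ∃ h ∈ (P : Subgroup G), (χ : G → ℂ) h ≠ (χ : G → ℂ) 1 := by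
    obtain ⟨h, hh, hh1⟩ := (Subgroup.bot_or_exists_ne_one (P : Subgroup G)).resolve_left fun h => by
      rw [h, Subgroup.card_bot] at hbig; have := hp.out.two_le; omega
    exact ⟨h, hh, fun e => hh1 (M.faith h e)⟩
  have hgen : ∀ N : Subgroup G, N.Normal → (P : Subgroup G) ≤ N → N = ⊤ := by
    intro N hN hPN
    by_contra hne
    haveI := hN
    have hidx := M.small N (lt_of_le_of_ne (Subgroup.card_le_card_group N) fun e => hne (N.eq_top_of_card_eq e)) _
      (IsCharacter.restrict (isCharacter_irr χ) N) (fun x e => CharDeep.SmallFaithful.faithful_restrict M.faith N x e)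
      hd (P.subtype hPN)
    have hcard : Nat.card ((P.subtype hPN : Sylow p N) : Subgroup N) = Nat.card (P : Subgroup G) := by
      rw [Sylow.coe_subtype]
      exact Nat.card_congr (Subgroup.subgroupOfEquivOfLe hPN).toEquiv
    have hbot : ((P.subtype hPN : Sylow p N) : Subgroup N).normalCore = ⊥ := by
      rw [eq_bot_iff]
      intro r hr
      have h2 : (r : G) ∈ (P : Subgroup G).normalCore := by
        intro c
        have hc : c ∈ N ⊔ Subgroup.normalizer ((P : Subgroup G) : Set G) := by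
          rw [sup_comm]
          have h3 := (P.subtype hPN).normalizer_sup_eq_top
          rw [Sylow.coe_subtype, Subgroup.subgroupOf_map_subtype, inf_eq_left.2 hPN] at h3
          rw [h3]; trivial
        obtain ⟨n', hn', n, hn, rfl⟩ := Subgroup.mem_sup_of_normal_right.1 (by rwa [sup_comm] at hc)
        have h5 : n * (r : G) * n⁻¹ ∈ (P : Subgroup G) := hr ⟨n, hn⟩
        have h6 := (Subgroup.mem_normalizer_iff.1 hn' _).1 h5
        rw [show n' * n * (r : G) * (n' * n)⁻¹ = n' * (n * (r : G) * n⁻¹) * n'⁻¹ by group]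
        exact h6
      rw [M.core P, Subgroup.mem_bot] at h2
      exact Subgroup.mem_bot.2 (Subtype.ext h2)
    rw [hbot, Subgroup.card_bot, mul_one, hcard] at hidx
    omega
  have key := (Cfsg.Agent.S0898.result (P : Subgroup G) (M.comm P) hPZ (M.separated P) _ χ.2 hmove).2
    (by rw [irr_one_eq]; exact_mod_cast hd1) hgen
  rw [irr_one_eq, Complex.natCast_re] at key
  have key' : Nat.card (P : Subgroup G) < (1 + charDegree (χ : G → ℂ)) ^ 2 := by exact_mod_cast key
  obtain ⟨k, hk⟩ := IsPGroup.iff_card.1 P.2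
  rw [hk] at key' hbig
  have hk2 : 2 ≤ k := by
    by_contra h
    interval_cases k <;> simp at hbig <;> omega
  have h1 : p ^ 2 ≤ p ^ k := Nat.pow_le_pow_right hp.out.pos hk2
  have h2 : (1 + charDegree (χ : G → ℂ)) ^ 2 ≤ p ^ 2 := Nat.pow_le_pow_left (by omega) 2
  omega

end Minimal

/-- **Feit's theorem.** -/
theorem hasIndex (hp5 : 5 ≤ p) : ∀ (m : ℕ) (G : Type u) [Group G] [Fintype G], Nat.card G = m → ∀ χ : G → ℂ,
    Cfsg.IsCharacter G χ → (∀ g : G, χ g = χ 1 → g = 1) → charDegree χ + 2 ≤ p → HasIndex p G := by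
  intro m
  induction m using Nat.strong_induction_on with
  | _ m ih =>
  intro G _ _ hm χ hχ hfaith hd
  obtain ⟨a, -, hexp⟩ := IsCharacter.exists_multiplicity hχ
  refine HasIndex.of_constituents hχ hfaith hexp hd fun φ h0 _ => ?_
  haveI := charKer_normal (isCharacter_irr φ)
  letI := Fintype.ofFinite (G ⧸ charKer (isCharacter_irr φ))
  obtain ⟨ψ, -, hf, hdeg⟩ := exists_image φ
  have hψd : charDegree (ψ : G ⧸ charKer (isCharacter_irr φ) → ℂ) + 2 ≤ p := by
    have h := sum_deg hχ hexp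
    have h1 := Finset.single_le_sum (f := fun x => a x * charDegree (x : G → ℂ)) (fun _ _ => Nat.zero_le _)
      (Finset.mem_univ φ)
    have h2 := Nat.le_mul_of_pos_left (charDegree (φ : G → ℂ)) (Nat.pos_of_ne_zero h0)
    omega
  intro P
  by_contra hbad
  have hQm : Nat.card (G ⧸ charKer (isCharacter_irr φ)) ≤ m :=
    hm ▸ Nat.le_of_dvd Nat.card_pos (Subgroup.card_quotient_dvd_card _)
  set H := G ⧸ charKer (isCharacter_irr φ)
  have hsmall : ∀ (K : Type u) [Group K] [Fintype K], Nat.card K < Nat.card H → ∀ η : K → ℂ, Cfsg.IsCharacter K η →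
      (∀ k : K, η k = η 1 → k = 1) → charDegree η + 2 ≤ p → HasIndex p K :=
    fun K _ _ hK η hη hηf hηd => ih (Nat.card K) (lt_of_lt_of_le hK hQm) K rfl η hη hηf hηd
  have hnn : ∀ S : Sylow p H, ¬ (S : Subgroup H).Normal := fun S hS => hbad (by
    haveI : Unique (Sylow p H) := Sylow.unique_of_normal S hS
    haveI : (P : Subgroup H).Normal := by rw [Subsingleton.elim P S]; exact hS
    rw [Subgroup.normalCore_eq_self]
    exact Nat.le_mul_of_pos_left _ hp.out.pos)
  by_cases hcore : (P : Subgroup H).normalCore = ⊥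
  swap
  · obtain ⟨ξ, -, hξd, -, hKp, hPK⟩ := exists_twist (p := p) ψ hf (by omega)
    haveI := charKer_normal (isCharacter_irr ξ)
    letI := Fintype.ofFinite (H ⧸ charKer (isCharacter_irr ξ))
    obtain ⟨ξ', -, hξ'f, hξ'd⟩ := exists_image ξ
    obtain ⟨r, hr, hr1⟩ := (Subgroup.bot_or_exists_ne_one _).resolve_left hcore
    have hrK : r ∈ charKer (isCharacter_irr ξ) :=
      hPK P ⟨Subgroup.normalCore_le _ hr, core_le_center ψ hf hψd P (hnn P) hr⟩
    refine hbad (HasIndex.of_quotient hKp (hsmall _ ?_ _ (isCharacter_irr ξ') hξ'f (by omega)) P)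
    have h1 := Subgroup.card_eq_card_quotient_mul_card_subgroup (charKer (isCharacter_irr ξ))
    have h2 : 1 < Nat.card (charKer (isCharacter_irr ξ)) :=
      Finite.one_lt_card_iff_nontrivial.2 ⟨⟨⟨r, hrK⟩, 1, fun h => hr1 (congrArg Subtype.val h)⟩⟩
    rw [h1]
    exact lt_mul_of_one_lt_right Nat.card_pos h2
  have hcard : ∀ S : Sylow p H, Nat.card (S : Subgroup H) = Nat.card (P : Subgroup H) := fun S => by
    rw [S.card_eq_multiplicity, P.card_eq_multiplicity]
  have hcores : ∀ S : Sylow p H, (S : Subgroup H).normalCore = ⊥ := fun S => by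
    rw [eq_bot_iff, ← hcore]
    exact le_core P (core_isPGroup S)
  exact Minimal.false (χ := ψ)
    ⟨hp5, hf, hψd, hsmall, hnn, hcores, fun S => by
      rw [hcard S]
      rw [hcore, Subgroup.card_bot, mul_one] at hbad
      omega⟩

end CfsgLib.Char.FeitDegree.Index
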