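import Cfsg.Agent.Lib.Char.FeitDegree.Index.Minimal

/-!
# Degree at most `p - 2`: passing to a Sylow subgroup of order `p`
-/

set_option autoImplicit false

open scoped Classical ComplexConjugate

namespace CfsgLib.Char.FeitDegree.Index

open Cfsg CfsgLib CfsgLib.Blocks CfsgLib.Blocks.DefectOne

universe u

variable {G : Type u} [Group G] [Fintype G] {p : ℕ} [hp : Fact p.Prime]

/-- A faithful twist lives on a central quotient with a Sylow subgroup of order `p`. -/
theorem reduce (hp5 : 5 ≤ p) (χ : IrrCharacter G) (hfaith : ∀ g : G, (χ : G → ℂ) g = (χ : G → ℂ) 1 → g = 1)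
    (hd : charDegree (χ : G → ℂ) + 2 ≤ p) (P : Sylow p G) (hnn : ¬ (P : Subgroup G).Normal) {R : Prop}
    (h : ∀ (H : Type u) [Group H] [Fintype H] (f : G →* H) (Q : Sylow p H) (ψ : IrrCharacter H),
      Function.Surjective f → f.ker ≤ Subgroup.center G → IsPGroup p f.ker → Nat.card Q = p →
      ¬ (Q : Subgroup H).Normal → (∀ x : H, (ψ : H → ℂ) x = (ψ : H → ℂ) 1 → x = 1) →
      charDegree (ψ : H → ℂ) = charDegree (χ : G → ℂ) →
      Nonempty (G ⧸ Subgroup.center G ≃* H ⧸ Subgroup.center H) → R) : R := by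
  have hidx := hasIndex (p := p) hp5 (Nat.card G) G rfl _ (isCharacter_irr χ) hfaith hd
  obtain ⟨ψ, hnorm, hψdeg, hKZ, hKp, hPK⟩ := exists_twist (p := p) χ hfaith (by omega)
  haveI := charKer_normal (isCharacter_irr ψ)
  obtain ⟨ψ', hψ', hf', hdeg'⟩ := exists_image ψ
  set K := charKer (isCharacter_irr ψ)
  set f := QuotientGroup.mk' K
  letI := Fintype.ofFinite (G ⧸ K)
  obtain ⟨hQ, hQn⟩ := sylow_quotient χ hfaith hd P hnn hidx K hKp hPK
  have hfs : Function.Surjective f := QuotientGroup.mk'_surjective K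
  set π : G →* (G ⧸ K) ⧸ Subgroup.center (G ⧸ K) := (QuotientGroup.mk' _).comp f with hπ
  have hπs : Function.Surjective π := (QuotientGroup.mk'_surjective _).comp hfs
  have hker : π.ker = Subgroup.center G := by
    ext g
    rw [MonoidHom.mem_ker, hπ, MonoidHom.comp_apply, QuotientGroup.mk'_apply, QuotientGroup.eq_one_iff]
    constructor
    · intro hg
      refine DegreeTools.mem_center_of_norm_eq χ hfaith g ?_
      obtain ⟨ω, hω, hmul⟩ := DegreeBound.apply_central_mul ψ'.2 hg
      have h1 := hmul 1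
      rw [mul_one] at h1
      rw [← hnorm, hψ', Function.comp_apply, h1, norm_mul, hω, one_mul, DegreeTools.norm_apply_one, hdeg', hψdeg]
    · intro hg
      refine Subgroup.mem_center_iff.2 fun q => ?_
      obtain ⟨t, rfl⟩ := hfs q
      show f t * f g = f g * f t
      rw [← map_mul, ← map_mul, Subgroup.mem_center_iff.1 hg t]
  exact h (G ⧸ K) f _ ψ' hfs (by rwa [QuotientGroup.ker_mk']) (by rwa [QuotientGroup.ker_mk']) hQ hQn hf'
    (hdeg'.trans hψdeg)
    ⟨(QuotientGroup.quotientMulEquivOfEq hker.symm).trans (QuotientGroup.quotientKerEquivOfSurjective π hπs)⟩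

end CfsgLib.Char.FeitDegree.Index
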